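import Cfsg.Agent.Lib.KnownA.Fi23Max.Defs

/-!
Kernel checks of the orbit certificate.
-/

set_option autoImplicit false
set_option maxRecDepth 100000

namespace CfsgLib.KnownA.Fi23Max

open CfsgLib.InvChar

theorem walk0 : DoubleCoverUtil.below (fun i => stepChk (0 + i)) 4000 = true := by decide +kernel

theorem count0 : tagCnt 0 4000 = 2442 := by decide +kernel

theorem walk1 : DoubleCoverUtil.below (fun i => stepChk (4000 + i)) 4000 = true := by decide +kernel

theorem count1 : tagCnt 4000 4000 = 2525 := by decide +kernel

theorem walk2 : DoubleCoverUtil.below (fun i => stepChk (8000 + i)) 4000 = true := by decide +kernel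

theorem count2 : tagCnt 8000 4000 = 2495 := by decide +kernel

theorem walk3 : DoubleCoverUtil.below (fun i => stepChk (12000 + i)) 4000 = true := by decide +kernel

theorem count3 : tagCnt 12000 4000 = 2508 := by decide +kernel

end CfsgLib.KnownA.Fi23Max
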