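import Cfsg.Agent.Lib.KnownA.Fi23Max.Defs

/-!
Kernel checks of the orbit certificate.
-/

set_option autoImplicit false
set_option maxRecDepth 100000

namespace CfsgLib.KnownA.Fi23Max

open CfsgLib.InvChar

theorem walk4 : DoubleCoverUtil.below (fun i => stepChk (16000 + i)) 4000 = true := by decide +kernel

theorem count4 : tagCnt 16000 4000 = 2500 := by decide +kernel

theorem walk5 : DoubleCoverUtil.below (fun i => stepChk (20000 + i)) 4000 = true := by decide +kernel

theorem count5 : tagCnt 20000 4000 = 2418 := by decide +kernel

theorem walk6 : DoubleCoverUtil.below (fun i => stepChk (24000 + i)) 4000 = true := by decide +kernel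

theorem count6 : tagCnt 24000 4000 = 2470 := by decide +kernel

theorem walk7 : DoubleCoverUtil.below (fun i => stepChk (28000 + i)) 3671 = true := by decide +kernel

theorem count7 : tagCnt 28000 3671 = 2325 := by decide +kernel

end CfsgLib.KnownA.Fi23Max
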