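import Cfsg.Agent.Lib.KnownA.Fi23Max.Checks
import Cfsg.Agent.Lib.KnownA.Fi23Max.WalkA
import Cfsg.Agent.Lib.KnownA.Fi23Max.WalkB

/-!
The transpositions of the presented Fi23 as points, the stabiliser of the set of 324 points, and
the orbit certificate.
-/

set_option autoImplicit false
set_option maxRecDepth 100000

namespace CfsgLib.KnownA.Fi23Max

open CfsgLib.InvChar CfsgLib.InvChar.Coset Cfsg.Spor CfsgLib.InvChar.SporFi23

/-- points -/
abbrev Pt := Fin F23.table.n

/-- the base point -/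
noncomputable abbrev o : Pt := ⟨0, F23.covered.hn⟩

/-- the element of a word -/
noncomputable def pw (L : List ℕ) : Fi23 := (wprod gen L)⁻¹

theorem rep_pw {L : List ℕ} (hL : ∀ x ∈ L, x < 10) (p : Pt) : (rep (pw L) p : ℕ) = fol L p :=
  rep_inv_wprod L hL p

theorem pw_append (A B : List ℕ) : pw (A ++ B) = pw B * pw A := by
  rw [pw, pw, pw, wprod_append, mul_inv_rev]

theorem ble_of {a b : ℕ} (h : a ≤ b) : Nat.ble a b = true := by rw [Nat.ble_eq]; exact h

theorem exists_move (p : Pt) : ∃ g : Fi23, rep g o = p := by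
  obtain ⟨-, e, he0, he⟩ := index_H
  obtain ⟨g, hg⟩ := QuotientGroup.mk_surjective (e p)
  refine ⟨g, e.injective ?_⟩
  rw [← he, he0, ← hg]
  show ((g * 1 : Fi23) : Fi23 ⧸ H) = _
  rw [mul_one]

theorem mem_H_of_fix {g : Fi23} (h : rep g o = o) : g ∈ H := by
  obtain ⟨-, e, he0, he⟩ := index_H
  have h1 := he g o
  rw [h, he0] at h1
  have h2 : (g * 1)⁻¹ * 1 ∈ H := QuotientGroup.eq.1 h1
  simpa using h2

/-- the transposition of a point -/
noncomputable def T (p : Pt) : Fi23 :=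
  Classical.choose (exists_move p) * t * (Classical.choose (exists_move p))⁻¹

theorem T_eq {g : Fi23} {p : Pt} (h : rep g o = p) : T p = g * t * g⁻¹ := by
  have hc := Classical.choose_spec (exists_move p)
  show Classical.choose (exists_move p) * t * (Classical.choose (exists_move p))⁻¹ = _
  generalize Classical.choose (exists_move p) = c at hc ⊢
  have hm : g⁻¹ * c ∈ H := mem_H_of_fix (by
    rw [map_mul, Equiv.Perm.mul_apply, hc, ← h, ← Equiv.Perm.mul_apply, ← map_mul, inv_mul_cancel,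
      map_one, Equiv.Perm.one_apply])
  calc c * t * c⁻¹ = g * ((g⁻¹ * c) * t) * c⁻¹ := by simp [mul_assoc]
    _ = g * t * g⁻¹ := by rw [t_central _ hm]; simp [mul_assoc]

theorem T_rep (g : Fi23) (p : Pt) : T (rep g p) = g * T p * g⁻¹ := by
  obtain ⟨c, hc⟩ := exists_move p
  rw [T_eq (g := g * c) (by rw [map_mul, Equiv.Perm.mul_apply, hc]), T_eq hc]
  simp [mul_assoc]

theorem T_inj {p q : Pt} (h : T p = T q) : p = q := by
  obtain ⟨a, ha⟩ := exists_move p
  obtain ⟨b, hb⟩ := exists_move q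
  rw [T_eq ha, T_eq hb] at h
  have hm : b⁻¹ * a ∈ H := by
    rw [← centralizer_t, Subgroup.mem_centralizer_singleton_iff]
    calc b⁻¹ * a * t = b⁻¹ * (a * t * a⁻¹) * a := by simp [mul_assoc]
      _ = t * (b⁻¹ * a) := by rw [h]; simp [mul_assoc]
  have := H_fix _ hm
  rw [map_mul, Equiv.Perm.mul_apply, ha, map_inv, Equiv.Perm.inv_eq_iff_eq, hb] at this
  exact this

theorem pw_tW (u : List ℕ) : pw (tW u) = pw u * t * (pw u)⁻¹ := by
  rw [tW, pw, pw, wprod_append, wprod_append, wprod_reverse gen gen_mul_self, ← t_eq, inv_inv]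
  simp [t_inv, mul_assoc]

theorem T_path {u : List ℕ} (hu : ∀ x ∈ u, x < 10) {p : Pt} (h : fol u 0 = (p : ℕ)) :
    T p = pw (tW u) := by
  rw [pw_tW]
  exact T_eq (Fin.ext ((rep_pw hu o).trans h))

theorem tW_lt {u : List ℕ} (hu : ∀ x ∈ u, x < 10) : ∀ x ∈ tW u, x < 10 := by
  intro x hx
  simp only [tW, List.mem_append, List.mem_reverse] at hx
  rcases hx with (h | h) | h
  · exact hu x h
  · exact tWord_lt x h
  · exact hu x h

theorem eval_T {u : List ℕ} (hu : ∀ x ∈ u, x < 10) {p : Pt} (h : fol u 0 = (p : ℕ)) (q : Pt) :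
    (rep (T p) q : ℕ) = fol (tW u) q := by
  rw [T_path hu h]; exact rep_pw (tW_lt hu) q

theorem rep_eq_one {g : Fi23} (h : rep g = 1) : g = 1 := by
  haveI := isSimpleGroup
  have hk : (rep : Fi23 →* Equiv.Perm Pt).ker = ⊥ := by
    refine (Subgroup.Normal.eq_bot_or_eq_top inferInstance).resolve_right fun htop => ?_
    have h7 : rep (pw [7]) = 1 := MonoidHom.mem_ker.1 (htop ▸ Subgroup.mem_top _)
    have h8 := rep_pw (L := [7]) (by decide) o
    rw [h7] at h8
    exact absurd h8.symm (by decide +kernel)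
  exact Subgroup.mem_bot.1 (hk ▸ MonoidHom.mem_ker.2 h)

/-- An element commuting with all generators that fixes a point is trivial. -/
theorem eq_one_of_commute {g : Fi23} (hc : ∀ h : Fi23, g * h = h * g) {p : Pt} (hp : rep g p = p) :
    g = 1 := by
  refine rep_eq_one (Equiv.ext fun q => ?_)
  obtain ⟨a, ha⟩ := exists_move p
  obtain ⟨b, hb⟩ := exists_move q
  have e : rep (b * a⁻¹) p = q := by
    rw [map_mul, Equiv.Perm.mul_apply, ← ha, ← Equiv.Perm.mul_apply (rep a⁻¹), ← map_mul,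
      inv_mul_cancel, map_one, Equiv.Perm.one_apply, hb]
  rw [Equiv.Perm.one_apply, ← e, ← Equiv.Perm.mul_apply, ← map_mul, hc, map_mul, Equiv.Perm.mul_apply, hp]

/-- commuting transpositions -/
def Com (a b : Pt) : Prop := Commute (T a) (T b)

theorem com_iff {a b : Pt} : Com a b ↔ rep (T a) b = b := by
  constructor
  · intro h
    refine T_inj ?_
    rw [T_rep, h.eq, mul_inv_cancel_right]
  · intro h
    have h' := T_rep (T a) b
    rw [h] at h'
    show T a * T b = T b * T a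
    conv_rhs => rw [h']
    rw [inv_mul_cancel_right]

theorem com_symm {a b : Pt} : Com a b ↔ Com b a := ⟨Commute.symm, Commute.symm⟩

theorem com_conj (g : Fi23) {a b : Pt} : Com (rep g a) (rep g b) ↔ Com a b := by
  simp only [Com, T_rep, Commute, SemiconjBy]
  constructor
  · intro h
    have := congrArg (fun z => g⁻¹ * z * g) h
    simpa [mul_assoc] using this
  · intro h
    calc g * T a * g⁻¹ * (g * T b * g⁻¹) = g * (T a * T b) * g⁻¹ := by simp [mul_assoc]
      _ = _ := by rw [h]; simp [mul_assoc]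

theorem rep_inv_apply (g : Fi23) (p : Pt) : rep g⁻¹ (rep g p) = p := by
  rw [← Equiv.Perm.mul_apply, ← map_mul, inv_mul_cancel, map_one, Equiv.Perm.one_apply]

theorem rep_apply_inv (g : Fi23) (p : Pt) : rep g (rep g⁻¹ p) = p := by
  rw [← Equiv.Perm.mul_apply, ← map_mul, mul_inv_cancel, map_one, Equiv.Perm.one_apply]

theorem pt_ok {i : ℕ} (hi : i < 324) : pt i < 31671 ∧ pos (pt i) = i + 1 := by
  have h := DoubleCoverUtil.below_get _ pt_chk i hi
  simp only [ptChk, force_eq, Bool.and_eq_true] at h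
  exact ⟨Nat.le_of_ble_eq_true h.1, Nat.eq_of_beq_eq_true h.2⟩

/-- the point of an index -/
noncomputable def P (i : ℕ) : Pt :=
  if h : pt i < F23.table.n then ⟨pt i, h⟩ else o

theorem P_val {i : ℕ} (hi : i < 324) : (P i : ℕ) = pt i := by
  rw [P, dif_pos (show pt i < F23.table.n from (pt_ok hi).1)]

theorem P_inj {i j : ℕ} (hi : i < 324) (hj : j < 324) (h : P i = P j) : i = j := by
  have := congrArg (fun p : Pt => pos p) h
  simp only [P_val hi, P_val hj, (pt_ok hi).2, (pt_ok hj).2] at this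
  omega

theorem P_zero : P 0 = o := Fin.ext ((P_val (by norm_num)).trans paths_ok.2.2.2.2.1)

/-- membership in the set -/
def InF (p : Pt) : Prop := pos p ≠ 0

theorem walk_ok : ∀ p < 31671, stepChk p = true := by
  intro p hp
  obtain ⟨c, i, L, hi, hpi, h⟩ : ∃ c i L : ℕ, i < L ∧ c + i = p ∧
      DoubleCoverUtil.below (fun i => stepChk (c + i)) L = true := by
    rcases Nat.lt_or_ge p 4000 with h | h
    · exact ⟨0, p, _, h, by omega, walk0⟩
    rcases Nat.lt_or_ge p 8000 with h | h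
    · exact ⟨4000, p - 4000, 4000, by omega, by omega, walk1⟩
    rcases Nat.lt_or_ge p 12000 with h | h
    · exact ⟨8000, p - 8000, 4000, by omega, by omega, walk2⟩
    rcases Nat.lt_or_ge p 16000 with h | h
    · exact ⟨12000, p - 12000, 4000, by omega, by omega, walk3⟩
    rcases Nat.lt_or_ge p 20000 with h | h
    · exact ⟨16000, p - 16000, 4000, by omega, by omega, walk4⟩
    rcases Nat.lt_or_ge p 24000 with h | h
    · exact ⟨20000, p - 20000, 4000, by omega, by omega, walk5⟩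
    rcases Nat.lt_or_ge p 28000 with h | h
    · exact ⟨24000, p - 24000, 4000, by omega, by omega, walk6⟩
    · exact ⟨28000, p - 28000, 3671, by omega, by omega, walk7⟩
  subst hpi
  exact DoubleCoverUtil.below_get _ h _ hi

theorem inF_iff {p : Pt} : InF p ↔ ∃ i < 324, P i = p := by
  constructor
  · intro h
    have hs := walk_ok p p.2
    simp only [stepChk, force_eq, Bool.and_eq_true, Bool.or_eq_true] at hs
    rcases hs.1.1.1 with h0 | h0
    · exact absurd (Nat.eq_of_beq_eq_true h0) h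
    · have h1 := Nat.le_of_ble_eq_true h0.1
      refine ⟨pos p - 1, by have : pos p ≠ 0 := h; omega, Fin.ext ?_⟩
      rw [P_val (by have : pos p ≠ 0 := h; omega)]
      exact Nat.eq_of_beq_eq_true h0.2
  · rintro ⟨i, hi, rfl⟩
    show pos (P i : ℕ) ≠ 0
    rw [P_val hi, (pt_ok hi).2]; omega

theorem inF_P {i : ℕ} (hi : i < 324) : InF (P i) := inF_iff.2 ⟨i, hi, rfl⟩

/-- the stabiliser of the set -/
noncomputable def St : Subgroup Fi23 where
  carrier := {g | ∀ p, InF (rep g p) ↔ InF p}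
  one_mem' p := by rw [map_one]; exact Iff.rfl
  mul_mem' {a b} ha hb p := by rw [map_mul, Equiv.Perm.mul_apply, ha, hb]
  inv_mem' {a} ha p := by rw [← ha, rep_apply_inv]

theorem mem_St {g : Fi23} : g ∈ St ↔ ∀ p, InF (rep g p) ↔ InF p := Iff.rfl

/-- action on the indices -/
def Act (g : Fi23) (f : ℕ → ℕ) : Prop := ∀ j < 324, f j < 324 ∧ rep g (P j) = P (f j)

theorem Act.surj {g : Fi23} {f : ℕ → ℕ} (h : Act g f) {i : ℕ} (hi : i < 324) :
    ∃ j < 324, f j = i := by
  have hinj : Set.InjOn f (Finset.range 324 : Finset ℕ) := fun a ha b hb e => by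
    simp only [Finset.coe_range, Set.mem_Iio] at ha hb
    exact P_inj ha hb ((rep g).injective (by rw [(h a ha).2, (h b hb).2, e]))
  have him : (Finset.range 324).image f = Finset.range 324 :=
    Finset.eq_of_subset_of_card_le (fun x hx => by
      obtain ⟨a, ha, rfl⟩ := Finset.mem_image.1 hx
      exact Finset.mem_range.2 (h a (Finset.mem_range.1 ha)).1)
      (by rw [Finset.card_image_of_injOn hinj])
  obtain ⟨j, hj, e⟩ := Finset.mem_image.1 (him.symm ▸ Finset.mem_range.2 hi)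
  exact ⟨j, Finset.mem_range.1 hj, e⟩

theorem Act.mem {g : Fi23} {f : ℕ → ℕ} (h : Act g f) : g ∈ St := by
  intro p
  constructor
  · intro hp
    obtain ⟨i, hi, e⟩ := inF_iff.1 hp
    obtain ⟨j, hj, rfl⟩ := h.surj hi
    rw [← (h j hj).2] at e
    exact (rep g).injective e ▸ inF_P hj
  · intro hp
    obtain ⟨i, hi, rfl⟩ := inF_iff.1 hp
    rw [(h i hi).2]; exact inF_P (h i hi).1

theorem Act.mul {a b : Fi23} {f g : ℕ → ℕ} (ha : Act a f) (hb : Act b g) : Act (a * b) (f ∘ g) :=
  fun j hj => ⟨(ha _ (hb j hj).1).1, by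
    rw [map_mul, Equiv.Perm.mul_apply, (hb j hj).2, (ha _ (hb j hj).1).2]; rfl⟩

theorem Act.one : Act 1 id := fun j hj => ⟨hj, by rw [map_one]; rfl⟩

theorem exists_act {g : Fi23} (hg : g ∈ St) : ∃ f, Act g f := by
  have : ∀ j, ∃ i, j < 324 → i < 324 ∧ rep g (P j) = P i := fun j => by
    by_cases hj : j < 324
    · obtain ⟨i, hi, e⟩ := inF_iff.1 ((hg (P j)).2 (inF_P hj))
      exact ⟨i, fun _ => ⟨hi, e.symm⟩⟩
    · exact ⟨0, fun h => absurd h hj⟩
  choose f hf using this
  exact ⟨f, hf⟩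

/-- the elements preserving the set -/
noncomputable def hw (k : ℕ) : Fi23 := pw (hwd k)

theorem hwd_lt (k : ℕ) : ∀ x ∈ hwd k, x < 10 := by
  intro x hx
  rw [hwd] at hx
  by_cases h : k < hws.length
  · rw [List.getD_eq_getElem _ _ h] at hx
    exact words_lt.1 _ (List.getElem_mem h) x hx
  · rw [List.getD_eq_default _ _ (Nat.le_of_not_lt h)] at hx
    exact absurd hx (by simp)

theorem img_ok {k : ℕ} (hk : k < 5) {i : ℕ} (hi : i < 324) :
    img k i < 324 ∧ rep (hw k) (P i) = P (img k i) ∧ img k i / 9 = pimg k (i / 9) := by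
  have h : imgChk k i = true := by
    match k, hk with
    | 0, _ => exact DoubleCoverUtil.below_get _ img_chk0 i hi
    | 1, _ => exact DoubleCoverUtil.below_get _ img_chk1 i hi
    | 2, _ => exact DoubleCoverUtil.below_get _ img_chk2 i hi
    | 3, _ => exact DoubleCoverUtil.below_get _ img_chk3 i hi
    | 4, _ => exact DoubleCoverUtil.below_get _ img_chk4 i hi
    | n + 5, h => omega
  simp only [imgChk, force_eq, Bool.and_eq_true] at h
  obtain ⟨⟨h1, h2⟩, h3⟩ := h
  have h1' : img k i < 324 := Nat.le_of_ble_eq_true h1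
  refine ⟨h1', Fin.ext ?_, Nat.eq_of_beq_eq_true h3⟩
  rw [hw, rep_pw (hwd_lt k), P_val hi, P_val h1']
  exact Nat.eq_of_beq_eq_true h2

theorem act_hw {k : ℕ} (hk : k < 5) : Act (hw k) (img k) := fun _ hj =>
  ⟨(img_ok hk hj).1, (img_ok hk hj).2.1⟩

/-- an element mapping parts to parts and blocks to blocks -/
def Good (g : Fi23) : Prop :=
  ∃ π : ℕ → ℕ, (∀ q < 36, π q < 36) ∧
    (∀ q < 36, ∀ q' < 36, (π q = π q' → q = q') ∧ (π q / 4 = π q' / 4 ↔ q / 4 = q' / 4)) ∧
    ∀ j < 324, ∃ j' < 324, rep g (P j) = P j' ∧ j' / 9 = π (j / 9)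

theorem Good.mem {g : Fi23} (h : Good g) : g ∈ St := by
  obtain ⟨π, -, -, hj⟩ := h
  have : ∀ j, ∃ i, j < 324 → i < 324 ∧ rep g (P j) = P i := fun j => by
    by_cases h' : j < 324
    · obtain ⟨i, hi, e, -⟩ := hj j h'
      exact ⟨i, fun _ => ⟨hi, e⟩⟩
    · exact ⟨0, fun h => absurd h h'⟩
  choose f hf using this
  exact Act.mem (f := f) hf

theorem Good.one : Good 1 :=
  ⟨id, fun _ h => h, fun _ _ _ _ => ⟨fun h => h, Iff.rfl⟩, fun j hj => ⟨j, hj, by rw [map_one]; rfl, rfl⟩⟩

theorem Good.hw_mul {k : ℕ} (hk : k < 5) {g : Fi23} (h : Good g) : Good (hw k * g) := by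
  obtain ⟨π, h1, h2, h3⟩ := h
  refine ⟨pimg k ∘ π, fun q hq => (pimg_facts k hk _ (h1 q hq)).1, fun q hq q' hq' => ⟨fun e => ?_, ?_⟩,
    fun j hj => ?_⟩
  · exact (h2 q hq q' hq').1 (((pimg_facts k hk _ (h1 q hq)).2 _ (h1 q' hq')).1 e)
  · exact ((pimg_facts k hk _ (h1 q hq)).2 _ (h1 q' hq')).2.trans (h2 q hq q' hq').2
  · obtain ⟨j', hj', e, e9⟩ := h3 j hj
    obtain ⟨a, b, c⟩ := img_ok hk hj'
    refine ⟨_, a, ?_, by rw [c, e9]; rfl⟩
    rw [map_mul, Equiv.Perm.mul_apply, e, b]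

/-- root of the orbit of a point -/
theorem root_lt (a : ℕ) : root a < 31671 := by
  rcases a with _ | _ | a <;> simp [root]

theorem tag_facts (p : Pt) : tag p < 3 ∧ (tag p = 0 ↔ InF p) := by
  have hs := walk_ok p p.2
  simp only [stepChk, force_eq, Bool.and_eq_true] at hs
  obtain ⟨⟨⟨-, h2⟩, h3⟩, -⟩ := hs
  refine ⟨Nat.le_of_ble_eq_true h2, ?_⟩
  show tag p = 0 ↔ pos p ≠ 0
  simp only [beq_iff_eq] at h3
  rcases Nat.eq_zero_or_pos (pos p) with h | h
  · rw [h] at h3 ⊢
    simp only [ne_eq, not_true, iff_false]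
    intro e; rw [e] at h3; exact absurd h3 (by decide)
  · refine iff_of_true ?_ (by omega)
    have : Nat.beq (pos p) 0 = false := Bool.eq_false_iff.2 fun e => by
      have := Nat.eq_of_beq_eq_true e; omega
    rw [this] at h3
    exact Nat.eq_of_beq_eq_true (by simpa using h3)

theorem exists_good (p : Pt) : ∃ g, Good g ∧ rep g ⟨root (tag p), root_lt _⟩ = p := by
  suffices ∀ d, ∀ p : Pt, dep p = d → ∃ g, Good g ∧ rep g ⟨root (tag p), root_lt _⟩ = p from
    this _ p rfl
  intro d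
  induction d using Nat.strong_induction_on with
  | _ d ih =>
    intro p hd
    have hs := walk_ok p p.2
    simp only [stepChk, force_eq, Bool.and_eq_true, Bool.or_eq_true] at hs
    rcases hs.2 with h | ⟨⟨⟨⟨h1, h2⟩, h3⟩, h4⟩, h5⟩
    · refine ⟨1, Good.one, ?_⟩
      rw [map_one, Equiv.Perm.one_apply]
      exact Fin.ext (Nat.eq_of_beq_eq_true h.2).symm
    · have hk : lett p < 5 := Nat.le_of_ble_eq_true h1
      have hq : prt p < F23.table.n := Nat.le_of_ble_eq_true h2
      have hd' : dep (prt p) < dep p := Nat.le_of_ble_eq_true h4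
      obtain ⟨g, hg, e⟩ := ih _ (hd ▸ hd') ⟨prt p, hq⟩ rfl
      have htag : tag ((⟨prt p, hq⟩ : Pt) : ℕ) = tag p := Nat.eq_of_beq_eq_true h3
      refine ⟨hw (lett p) * g, hg.hw_mul hk, ?_⟩
      simp only [htag] at e
      rw [map_mul, Equiv.Perm.mul_apply, e]
      exact Fin.ext ((rep_pw (hwd_lt _) _).trans (Nat.eq_of_beq_eq_true h5))

end CfsgLib.KnownA.Fi23Max
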