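import Cfsg.Agent.Lib.KnownA.Fi23Max.Defs

/-!
Kernel checks on the set of 324 points.
-/

set_option autoImplicit false
set_option maxRecDepth 100000
set_option Elab.async false

namespace CfsgLib.KnownA.Fi23Max

open CfsgLib.InvChar

theorem pt_chk : DoubleCoverUtil.below ptChk 324 = true := by decide +kernel
theorem img_chk0 : DoubleCoverUtil.below (imgChk 0) 324 = true := by decide +kernel
theorem img_chk1 : DoubleCoverUtil.below (imgChk 1) 324 = true := by decide +kernel
theorem img_chk2 : DoubleCoverUtil.below (imgChk 2) 324 = true := by decide +kernel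
theorem img_chk3 : DoubleCoverUtil.below (imgChk 3) 324 = true := by decide +kernel
theorem img_chk4 : DoubleCoverUtil.below (imgChk 4) 324 = true := by decide +kernel

theorem pimg_facts : ∀ k < 5, ∀ q < 36, pimg k q < 36 ∧ ∀ q' < 36,
    (pimg k q = pimg k q' → q = q') ∧ (pimg k q / 4 = pimg k q' / 4 ↔ q / 4 = q' / 4) := by
  decide +kernel

theorem words_lt : (∀ L ∈ hws, ∀ x ∈ L, x < 10) ∧
    (∀ L ∈ pathA ++ pathB ++ pathR ++ pathU ++ pathX ++ pathN ++ [pathFar], ∀ x ∈ L, x < 10) ∧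
    hws.length = 5 ∧ hwd 0 = tW [] := by decide +kernel

theorem paths_ok : (∀ i < 36, fol (pA i) 0 = pt i) ∧ (∀ j < 9, fol (pathB.getD j []) 0 = pt (36 * j)) ∧
    fol (pathR.getD 0 []) 0 = 2 ∧ fol (pathR.getD 1 []) 0 = 18 ∧ pt 0 = 0 ∧ pos 2 = 0 ∧ pos 18 = 0 ∧
    tag 2 = 1 ∧ tag 18 = 2 ∧ pos (fol pathFar 0) ≠ 0 ∧
    (∀ k < 36, pos (fol (pathN.getD k []) 0) ≠ 0) ∧
    (∀ i < 2, pos (fol (pathU.getD i []) 0) ≠ 0) ∧ (∀ i < 2, pos (fol (pathX.getD i []) 0) ≠ 0) := by
  decide +kernel

theorem nb_chk : DoubleCoverUtil.below nbChk 324 = true := by decide +kernel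
theorem part_chk : DoubleCoverUtil.below partChk 324 = true := by decide +kernel
theorem pop_chk : ∀ i < 9, ∀ j < 9, popChk i j = true := by decide +kernel
theorem bop_chk : ∀ i < 9, ∀ j < 9, bopChk i j = true := by decide +kernel
theorem cov_chk : DoubleCoverUtil.below covChk 324 = true := by decide +kernel
theorem nbr_chk : ∀ k < 36, fol (tW (pathN.getD k [])) 2 = 2 := by decide +kernel
theorem far_chk : DoubleCoverUtil.below farChk 324 = true := by decide +kernel

theorem pop_closed : ∀ A : Finset (Fin 9), (∀ i ∈ A, ∀ j ∈ A, (Fin.ofNat 9 (pop i j)) ∈ A) →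
    A.card ≠ 2 ∧ A.card ≠ 4 := by decide +kernel

theorem bop_closed : ∀ A : Finset (Fin 9), (∀ i ∈ A, ∀ j ∈ A, (Fin.ofNat 9 (bop i j)) ∈ A) →
    A.card ≠ 2 ∧ A.card ≠ 4 := by decide +kernel

theorem start0_chk : startChk 2 start0 = true := by decide +kernel
theorem start1_chk : startChk 18 start1 = true := by decide +kernel
theorem clo0 : clo steps0 start0 = true := by decide +kernel
theorem clo1 : clo steps1 start1 = true := by decide +kernel
theorem steps0_pure : ∀ s ∈ steps0, s.1.1 < 31671 := by decide +kernel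

theorem gen_pts : genPts.length = 10 ∧ genPts.getD 1 0 = fol SporFi23.tw 0 ∧
    ∀ e ∈ [(1, 0), (1, 2), (2, 3), (3, 4), (3, 8), (4, 5), (5, 6), (6, 7), (8, 9)],
      fol [(e : ℕ × ℕ).2, e.1] (genPts.getD e.1 0) = genPts.getD e.2 0 := by decide +kernel

theorem chain0_chk : DoubleCoverUtil.below (fun j => Nat.beq (uA 0 j) (imgs chain0 j)) 324 = true := by
  decide +kernel

theorem chain_chk : ∀ m < 8, DoubleCoverUtil.below (chainChk m) 324 = true := by decide +kernel

theorem chain_letters : (∀ k ∈ chain0, k < 5) ∧ ∀ c ∈ chainH, ∀ k ∈ c, k < 5 := by decide +kernel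

theorem last_chk : DoubleCoverUtil.below lastChk 324 = true := by decide +kernel

theorem wit_chk : fol (vWord ++ uWord) witPt ≠ fol (uWord ++ vWord) witPt ∧ witPt < 31671 := by
  decide +kernel

end CfsgLib.KnownA.Fi23Max
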