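import Cfsg.Agent.Lib.KnownA.Fi23Max.Data
import Cfsg.Agent.Lib.InvChar.SporFi23Trans

/-!
The checks on the data: points, words and Boolean tests.
-/

set_option autoImplicit false

namespace CfsgLib.KnownA.Fi23Max

open CfsgLib.InvChar.Coset CfsgLib.InvChar

/-- follow a word -/
noncomputable def fol (L : List ℕ) (p : ℕ) : ℕ := F23.table.follow L p

/-- the word of the transposition at the end of a path -/
def tW (u : List ℕ) : List ℕ := u.reverse ++ SporFi23.tWord ++ u

/-- one plus the index, or zero -/
noncomputable def pos (p : ℕ) : ℕ := field posT 128 20 p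

/-- the points of the set -/
noncomputable def pt (i : ℕ) : ℕ := field ptT 128 20 i

/-- the packed walk entry -/
noncomputable def wlk (p : ℕ) : ℕ := field walkT 64 32 p

/-- the root of a point -/
noncomputable def tag (p : ℕ) : ℕ := wlk p / 2 ^ 27

/-- the depth of a point -/
noncomputable def dep (p : ℕ) : ℕ := wlk p / 2 ^ 18 % 512

/-- the parent of a point -/
noncomputable def prt (p : ℕ) : ℕ := wlk p % 2 ^ 18 / 8

/-- the letter of a point -/
noncomputable def lett (p : ℕ) : ℕ := wlk p % 8

/-- the word preserving the set -/
def hwd (k : ℕ) : List ℕ := hws.getD k []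

/-- image of an index under a word -/
noncomputable def img (k i : ℕ) : ℕ := field imgT 128 20 (k * 324 + i)

/-- image of a part under a word -/
def pimg (k q : ℕ) : ℕ := (partImg.getD k []).getD q 0

/-- root points -/
def root : ℕ → ℕ
  | 0 => 0 | 1 => 2 | _ => 18

/-- one point of the walk -/
noncomputable def stepChk (p : ℕ) : Bool :=
  force (tag p) fun tg => force (pos p) fun v => force (lett p) fun k =>
    (Nat.beq v 0 || (Nat.ble v 324 && Nat.beq (pt (v - 1)) p)) && Nat.blt tg 3 &&
      (Nat.beq tg 0 == !(Nat.beq v 0)) &&
      ((Nat.beq k 7 && Nat.beq (dep p) 0 && Nat.beq p (root tg)) ||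
        force (prt p) fun q => Nat.blt k 5 && Nat.blt q 31671 && Nat.beq (tag q) tg &&
          Nat.blt (dep q) (dep p) && Nat.beq (fol (hwd k) q) p)

/-- count of a test below a bound -/
noncomputable def cnt (f : ℕ → Bool) (n : ℕ) : ℕ :=
  Nat.rec 0 (fun i ih => bif f i then ih + 1 else ih) n

/-- chunk of the count of the second orbit -/
noncomputable def tagCnt (o n : ℕ) : ℕ := cnt (fun i => Nat.beq (tag (o + i)) 1) n

/-- points of the set -/
noncomputable def ptChk (i : ℕ) : Bool :=
  force (pt i) fun p => Nat.blt p 31671 && Nat.beq (pos p) (i + 1)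

/-- words preserve the set and the parts -/
noncomputable def imgChk (k i : ℕ) : Bool :=
  force (img k i) fun j => Nat.blt j 324 && Nat.beq (fol (hwd k) (pt i)) (pt j) &&
    Nat.beq (j / 9) (pimg k (i / 9))

/-- the transposition at the end of a path fixes an index -/
noncomputable def comB (u : List ℕ) (j : ℕ) : Bool := force (pt j) fun p => Nat.beq (fol (tW u) p) p

/-- path to one of the first indices -/
def pA (i : ℕ) : List ℕ := pathA.getD i []

/-- the neighbours of the base point -/
noncomputable def nbChk (c : ℕ) : Bool :=
  Nat.beq c 0 || (comB [] c == (Nat.ble 9 c && Nat.blt c 36))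

/-- the part of the base point -/
noncomputable def partChk (b : ℕ) : Bool :=
  bif Nat.blt b 9 then DoubleCoverUtil.below (fun c => comB (pA (9 + c)) b) 27
  else !(DoubleCoverUtil.below (fun c => comB (pA (9 + c)) b) 27)

/-- product inside the first part -/
def pop (i j : ℕ) : ℕ := (partOp.getD i []).getD j 0

/-- product of blocks -/
def bop (i j : ℕ) : ℕ := (blockOp.getD i []).getD j 0

/-- products -/
noncomputable def popChk (i j : ℕ) : Bool :=
  Nat.blt (pop i j) 9 && Nat.beq (fol (tW (pA i)) (pt j)) (pt (pop i j))

/-- products of blocks -/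
noncomputable def bopChk (i j : ℕ) : Bool :=
  force (pos (fol (tW (pathB.getD i [])) (pt (36 * j)))) fun v =>
    !(Nat.beq v 0) && Nat.beq ((v - 1) / 36) (bop i j)

/-- every index has a commuting neighbour of the first outer root -/
noncomputable def covChk (i : ℕ) : Bool :=
  force (field covT 128 20 i) fun k => Nat.blt k 36 && comB (pathN.getD k []) i

/-- the neighbours of the second outer root are far from an index -/
noncomputable def farChk (b : ℕ) : Bool := !(comB (pathR.getD 1 []) b) || !(comB pathFar b)

/-- a step of a closure derivation -/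
noncomputable def stepOK (known : List ℕ) (s : (ℕ × List ℕ) × ℕ) : Bool :=
  decide (s.2 ∈ known) &&
    bif Nat.blt s.1.1 31671 then decide (s.1.1 ∈ known) && Nat.beq (fol s.1.2 0) s.1.1 &&
      s.1.2.all (fun x => Nat.blt x 10)
    else Nat.blt (s.1.1 - 31671) 5

/-- the point of a step -/
noncomputable def stepPt (s : (ℕ × List ℕ) × ℕ) : ℕ :=
  bif Nat.blt s.1.1 31671 then fol (tW s.1.2) s.2 else fol (hwd (s.1.1 - 31671)) s.2

/-- a closure derivation -/
noncomputable def clo (steps : List ((ℕ × List ℕ) × ℕ)) : List ℕ → Bool :=
  List.rec (fun known => genPts.all fun g => decide (g ∈ known))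
    (fun s _ ih known => stepOK known s && force (stepPt s) fun w => ih (w :: known)) steps

/-- the start of a derivation -/
noncomputable def startChk (r : ℕ) (l : List ℕ) : Bool :=
  l.all fun p => Nat.beq p r || (Nat.blt p 31671 && !(Nat.beq (pos p) 0))

/-- image of an index under a product -/
noncomputable def imgs : List ℕ → ℕ → ℕ
  | [], j => j
  | k :: c, j => imgs c (img k j)

/-- elements of the chain on the indices -/
noncomputable def uA (m j : ℕ) : ℕ := field uT 128 20 (m * 324 + j)

/-- their conjugates on the indices -/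
noncomputable def vA (m j : ℕ) : ℕ := field vT 128 20 (m * 324 + j)

/-- the chain step -/
noncomputable def chainChk (m j : ℕ) : Bool :=
  force (uA m j) fun u => force (vA m j) fun v =>
    Nat.blt u 324 && Nat.blt v 324 && Nat.blt (uA (m + 1) j) 324 &&
      Nat.beq (vA m (imgs (chainH.getD m []) j)) (imgs (chainH.getD m []) u) &&
      Nat.beq (uA (m + 1) (uA m v)) (vA m u)

/-- the product of two transpositions acting as the last element -/
def uWord : List ℕ := tW (pathU.getD 0 []) ++ tW (pathU.getD 1 [])

/-- its conjugate -/
def vWord : List ℕ :=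
  (tW (pathX.getD 0 []) ++ tW (pathX.getD 1 [])) ++ uWord ++ (tW (pathX.getD 1 []) ++ tW (pathX.getD 0 []))

/-- the last element -/
noncomputable def lastChk (j : ℕ) : Bool := Nat.beq (fol uWord (pt j)) (pt (uA 8 j))

end CfsgLib.KnownA.Fi23Max
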