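import Cfsg.Agent.Lib.KnownA.Fi23Max.Outside
import Cfsg.Agent.Lib.Char.Burnside

/-!
The maximal subgroup of the presented Fi23 whose ninth derived subgroup is not perfect.
-/

set_option autoImplicit false
set_option maxRecDepth 100000

namespace CfsgLib.KnownA.Fi23Max

open CfsgLib.InvChar CfsgLib.InvChar.Coset Cfsg.Spor CfsgLib.InvChar.SporFi23
open scoped commutatorElement

theorem two_three {n : ℕ} (hn : n ≠ 0) (h : ∀ q, q.Prime → q ∣ n → q < 5) :
    ∃ a b, n = 2 ^ a * 3 ^ b := by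
  obtain ⟨a, m, hm, rfl⟩ := Nat.exists_eq_pow_mul_and_not_dvd hn 2 (by norm_num)
  have hm0 : m ≠ 0 := fun e => hn (by simp [e])
  obtain ⟨b, l, hl, rfl⟩ := Nat.exists_eq_pow_mul_and_not_dvd hm0 3 (by norm_num)
  refine ⟨a, b, ?_⟩
  suffices l = 1 by rw [this, mul_one]
  by_contra hne
  obtain ⟨q, hq, hql⟩ := Nat.exists_prime_and_dvd hne
  have h5 := h q hq ((hql.mul_left _).mul_left _)
  have := hq.two_le
  interval_cases q
  · exact hm (hql.mul_left _)
  · exact hl hql
  · exact absurd hq (by norm_num)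

theorem St_solvable [Finite Fi23] : Group.IsSolvable St := by
  obtain ⟨a, b, hab⟩ := two_three (Nat.card_pos (α := St)).ne' (fun q hq hd => by
    by_contra h5
    haveI : Fact q.Prime := ⟨hq⟩
    obtain ⟨g, hg⟩ := exists_prime_orderOf_dvd_card' q hd
    have h1 : (g : Fi23) ^ q = 1 := by
      rw [← SubmonoidClass.coe_pow, ← hg, pow_orderOf_eq_one]; rfl
    have := no_large_prime hq (by omega) g.2 h1
    rw [show g = 1 from Subtype.ext this, orderOf_one] at hg
    exact hq.ne_one hg.symm)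
  exact CfsgLib.Char.burnside_pq 2 3 Nat.prime_two Nat.prime_three a b St hab

theorem act_imgs : ∀ c : List ℕ, (∀ k ∈ c, k < 5) → ∃ h : St, Act (h : Fi23) (imgs c) := by
  intro c
  induction c with
  | nil => exact fun _ => ⟨1, Act.one⟩
  | cons k c ih =>
    intro hc
    obtain ⟨h, hh⟩ := ih fun x hx => hc x (List.mem_cons_of_mem _ hx)
    have hk := act_hw (hc k List.mem_cons_self)
    exact ⟨h * ⟨hw k, hk.mem⟩, hh.mul hk⟩

theorem chain : ∀ m ≤ 8, ∃ u : St, Act (u : Fi23) (uA m) ∧ u ∈ derivedSeries St m := by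
  intro m
  induction m with
  | zero =>
    intro _
    obtain ⟨h, hh⟩ := act_imgs chain0 chain_letters.1
    refine ⟨h, fun j hj => ?_, Subgroup.mem_top _⟩
    rw [show uA 0 j = imgs chain0 j from Nat.eq_of_beq_eq_true (DoubleCoverUtil.below_get _ chain0_chk j hj)]
    exact hh j hj
  | succ m ih =>
    intro hm
    obtain ⟨u, hu, hum⟩ := ih (by omega)
    obtain ⟨h, hh⟩ := act_imgs (chainH.getD m []) (fun k hk => by
      by_cases hl : m < chainH.length
      · rw [List.getD_eq_getElem _ _ hl] at hk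
        exact chain_letters.2 _ (List.getElem_mem hl) k hk
      · rw [List.getD_eq_default _ _ (Nat.le_of_not_lt hl)] at hk
        exact absurd hk (by simp))
    have key : ∀ j < 324, uA m j < 324 ∧ vA m j < 324 ∧ uA (m + 1) j < 324 ∧
        vA m (imgs (chainH.getD m []) j) = imgs (chainH.getD m []) (uA m j) ∧
        uA (m + 1) (uA m (vA m j)) = vA m (uA m j) := fun j hj => by
      have h := DoubleCoverUtil.below_get _ (chain_chk m (by omega)) j hj
      simp only [chainChk, force_eq, Bool.and_eq_true] at h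
      exact ⟨Nat.le_of_ble_eq_true h.1.1.1.1, Nat.le_of_ble_eq_true h.1.1.1.2,
        Nat.le_of_ble_eq_true h.1.1.2, Nat.eq_of_beq_eq_true h.1.2, Nat.eq_of_beq_eq_true h.2⟩
    have hv : Act ((h * u * h⁻¹ : St) : Fi23) (vA m) := by
      intro j hj
      refine ⟨(key j hj).2.1, ?_⟩
      obtain ⟨i, hi, rfl⟩ := hh.surj hj
      rw [Subgroup.coe_mul, Subgroup.coe_mul, Subgroup.coe_inv, (key i hi).2.2.2.1, map_mul, map_mul,
        Equiv.Perm.mul_apply, Equiv.Perm.mul_apply, ← (hh i hi).2, rep_inv_apply, (hu i hi).2,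
        (hh _ (key i hi).1).2]
    have hvm : h * u * h⁻¹ ∈ derivedSeries St m :=
      (derivedSeries_normal St m).conj_mem u hum h
    refine ⟨⁅h * u * h⁻¹, u⁆, fun j hj => ⟨(key j hj).2.2.1, ?_⟩, ?_⟩
    · obtain ⟨j', hj', rfl⟩ := (hu.mul hv).surj hj
      have e : ((⁅h * u * h⁻¹, u⁆ : St) : Fi23) * ((u : Fi23) * (h * u * h⁻¹ : St)) =
          ((h * u * h⁻¹ : St) : Fi23) * u := by
        simp only [commutatorElement_def, Subgroup.coe_mul, Subgroup.coe_inv]
        group
      rw [← ((hu.mul hv) j' hj').2, ← Equiv.Perm.mul_apply, ← map_mul, e, ((hv.mul hu) j' hj').2]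
      exact congrArg P (key j' hj').2.2.2.2.symm
    · rw [derivedSeries_succ]
      exact Subgroup.commutator_mem_commutator hvm hum

theorem derived_nine : derivedSeries St 9 ≠ ⊥ := by
  intro hbot
  obtain ⟨u, hu, hum⟩ := chain 8 le_rfl
  -- the product of two transpositions
  have hU : ∀ i, ∀ x ∈ tW (pathU.getD i []), x < 10 := fun i => tW_lt (pU_lt i)
  have hX : ∀ i, ∀ x ∈ tW (pathX.getD i []), x < 10 := fun i => tW_lt (pX_lt i)
  have hul : ∀ x ∈ uWord, x < 10 := by
    intro x hx; simp only [uWord, List.mem_append] at hx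
    rcases hx with h | h <;> exact hU _ x h
  have hTm : ∀ (pl : List ℕ), (∀ x ∈ pl, x < 10) → pos (fol pl 0) ≠ 0 →
      pw (tW pl) ∈ St ∧ ∀ g : Fi23, (∀ a, InF a → rep g a = a) → g * pw (tW pl) = pw (tW pl) * g := by
    intro pl hpl hne
    set a : Pt := rep (pw pl) o with ha
    have hav : fol pl 0 = (a : ℕ) := (rep_pw hpl o).symm
    have hFa : InF a := fun e => hne (by rw [hav]; exact e)
    rw [← T_path hpl hav]
    refine ⟨?_, fun g hg => ?_⟩
    · obtain ⟨i, hi, e⟩ := inF_iff.1 hFa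
      obtain ⟨s, hs, e'⟩ := good_to hi
      have h0 : T (P 0) = hw 0 := by
        rw [hw, words_lt.2.2.2, P_zero]
        exact T_path (u := []) (by simp) rfl
      rw [← e, ← e', T_rep, h0]
      exact mul_mem (mul_mem hs.mem (act_hw (by norm_num)).mem) (inv_mem hs.mem)
    · have hfix := T_rep g a
      rw [hg a hFa] at hfix
      conv_rhs => rw [hfix]
      rw [inv_mul_cancel_right]
  have hu0 := hTm _ (pU_lt 0) (paths_ok.2.2.2.2.2.2.2.2.2.2.2.1 0 (by norm_num))
  have hu1 := hTm _ (pU_lt 1) (paths_ok.2.2.2.2.2.2.2.2.2.2.2.1 1 (by norm_num))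
  have hx0 := hTm _ (pX_lt 0) (paths_ok.2.2.2.2.2.2.2.2.2.2.2.2 0 (by norm_num))
  have hx1 := hTm _ (pX_lt 1) (paths_ok.2.2.2.2.2.2.2.2.2.2.2.2 1 (by norm_num))
  set x : Fi23 := pw (tW (pathX.getD 1 [])) * pw (tW (pathX.getD 0 [])) with hx
  set x' : Fi23 := pw (tW (pathX.getD 0 []) ++ tW (pathX.getD 1 [])) with hx'
  have exx : x' = x := by rw [hx', pw_append]
  set u' : Fi23 := pw uWord with hu'
  set g : Fi23 := u'⁻¹ * u with hg
  have hgF : ∀ a, InF a → rep g a = a := by
    intro a ha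
    obtain ⟨j, hj, rfl⟩ := inF_iff.1 ha
    rw [hg, map_mul, Equiv.Perm.mul_apply, map_inv, Equiv.Perm.inv_eq_iff_eq, (hu j hj).2]
    refine (Fin.ext ?_).symm
    rw [rep_pw hul, P_val hj, P_val (hu j hj).1]
    exact Nat.eq_of_beq_eq_true (DoubleCoverUtil.below_get _ last_chk j hj)
  have hxS : x ∈ St := mul_mem hx1.1 hx0.1
  have cgx : Commute g x := (show Commute g _ from hx1.2 g hgF).mul_right (hx0.2 g hgF)
  have cgu : Commute g u' := by
    rw [hu', uWord, pw_append]
    exact (show Commute g _ from hu1.2 g hgF).mul_right (hu0.2 g hgF)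
  have eu : (u : Fi23) = u' * g := by rw [hg, mul_inv_cancel_left]
  set v' : Fi23 := x⁻¹ * u' * x with hv'
  have cgv : Commute g v' := (cgx.inv_right.mul_right cgu).mul_right cgx
  have hvm : (⟨x, hxS⟩⁻¹ * u * ⟨x, hxS⟩ : St) ∈ derivedSeries St 8 := by
    have := (derivedSeries_normal St 8).conj_mem u hum (⟨x, hxS⟩⁻¹)
    rwa [inv_inv] at this
  have hcomm : u * (⟨x, hxS⟩⁻¹ * u * ⟨x, hxS⟩) = (⟨x, hxS⟩⁻¹ * u * ⟨x, hxS⟩) * u := by
    rw [← commutatorElement_eq_one_iff_mul_comm, ← Subgroup.mem_bot, ← hbot, derivedSeries_succ]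
    exact Subgroup.commutator_mem_commutator hum hvm
  have hc : (u : Fi23) * (x⁻¹ * u * x) = x⁻¹ * u * x * u := congrArg Subtype.val hcomm
  have ev : x⁻¹ * (u : Fi23) * x = v' * g := by
    rw [eu, hv']
    calc x⁻¹ * (u' * g) * x = x⁻¹ * u' * (g * x) := by simp [mul_assoc]
      _ = _ := by rw [cgx.eq]; simp [mul_assoc]
  rw [ev, eu] at hc
  have hfin : u' * v' = v' * u' := by
    have h1 : u' * g * (v' * g) = u' * v' * (g * g) := by
      calc u' * g * (v' * g) = u' * (g * v') * g := by simp [mul_assoc]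
        _ = _ := by rw [cgv.eq]; simp [mul_assoc]
    have h2 : v' * g * (u' * g) = v' * u' * (g * g) := by
      calc v' * g * (u' * g) = v' * (g * u') * g := by simp [mul_assoc]
        _ = _ := by rw [cgu.eq]; simp [mul_assoc]
    rw [h1, h2] at hc
    exact mul_right_cancel hc
  have hinv : ∀ i, (pw (tW (pathX.getD i [])))⁻¹ = pw (tW (pathX.getD i [])) := fun i => by
    rw [pw_tW]; simp [t_inv, mul_assoc]
  have hv : pw vWord = v' := by
    rw [vWord, pw_append, pw_append, pw_append, pw_append, ← hu', hv', hx, mul_inv_rev, hinv, hinv]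
    simp [mul_assoc]
  have hvl : ∀ y ∈ vWord, y < 10 := by
    intro y hy; simp only [vWord, List.mem_append] at hy
    rcases hy with ((h | h) | h) | (h | h) <;> first | exact hX _ y h | exact hul y h
  have h1 : pw (vWord ++ uWord) = u' * v' := by rw [pw_append, hv]
  have h2 : pw (uWord ++ vWord) = v' * u' := by rw [pw_append, hv]
  have hl1 : ∀ y ∈ vWord ++ uWord, y < 10 := fun y hy => (List.mem_append.1 hy).elim (hvl y) (hul y)
  have hl2 : ∀ y ∈ uWord ++ vWord, y < 10 := fun y hy => (List.mem_append.1 hy).elim (hul y) (hvl y)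
  let w : Pt := ⟨witPt, wit_chk.2⟩
  refine wit_chk.1 ?_
  show fol _ (w : ℕ) = fol _ (w : ℕ)
  rw [← rep_pw hl1 w, ← rep_pw hl2 w, h1, h2, hfin]

theorem St_derived [Finite Fi23] : derivedSeries St 10 ≠ derivedSeries St 9 := by
  intro h
  obtain ⟨n, hn⟩ := (Group.isSolvable_def St).1 St_solvable
  have hstab : ∀ k, derivedSeries St (9 + k) = derivedSeries St 9 := by
    intro k
    induction k with
    | zero => rfl
    | succ k ih => rw [← Nat.add_assoc, derivedSeries_succ, ih, ← derivedSeries_succ, h]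
  refine derived_nine ?_
  rw [← hstab n, eq_bot_iff, ← hn]
  exact derivedSeries_antitone (G := St) (Nat.le_add_left n 9)

theorem exists_example :
    ∃ (G : Type) (_ : Group G) (_ : Finite G) (S H : Subgroup G), S.Normal ∧ IsSimpleGroup S ∧
      ¬ IsMulCommutative S ∧ Subgroup.centralizer (S : Set G) = ⊥ ∧ IsCoatom H ∧
      derivedSeries H 10 ≠ derivedSeries H 9 := by
  haveI : Finite Fi23 := Finite.of_injective rep (by
    rw [← MonoidHom.ker_eq_bot_iff, eq_bot_iff]
    intro g hg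
    exact Subgroup.mem_bot.2 (rep_eq_one (MonoidHom.mem_ker.1 hg)))
  have hcen : ∀ g : Fi23, (∀ h, g * h = h * g) → g = 1 := fun g hg => by
    refine eq_one_of_commute hg (p := o) (H_fix g ?_)
    rw [← centralizer_t, Subgroup.mem_centralizer_singleton_iff]
    exact hg t
  refine ⟨Fi23, inferInstance, inferInstance, ⊤, St, inferInstance, ?_, fun hc => ?_, ?_, St_coatom, St_derived⟩
  · haveI := isSimpleGroup
    exact Subgroup.topEquiv.isSimpleGroup
  · refine t_ne_one (hcen t fun h => ?_)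
    exact congrArg Subtype.val (hc.is_comm.comm (⟨t, Subgroup.mem_top _⟩ : (⊤ : Subgroup Fi23)) ⟨h, Subgroup.mem_top _⟩)
  · rw [eq_bot_iff]
    intro g hg
    exact Subgroup.mem_bot.2 (hcen g fun h => (Subgroup.mem_centralizer_iff.1 hg h (Subgroup.mem_top h)).symm)

end CfsgLib.KnownA.Fi23Max
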