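import Cfsg.Agent.Lib.KnownA.Fi23Max.PFix

/-!
The closure derivations: the stabiliser of the set is maximal, and its elements of prime order are
of order two or three.
-/

set_option autoImplicit false
set_option maxRecDepth 100000

namespace CfsgLib.KnownA.Fi23Max

open CfsgLib.InvChar CfsgLib.InvChar.Coset Cfsg.Spor CfsgLib.InvChar.SporFi23

/-- a point with property `Q` -/
def Known (Q : Pt → Prop) (w : ℕ) : Prop := ∃ h : w < F23.table.n, Q ⟨w, h⟩

theorem clo_sound (Q : Pt → Prop) (hT : ∀ x z, Q x → Q z → Q (rep (T x) z)) :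
    ∀ (steps : List ((ℕ × List ℕ) × ℕ)),
      ((∀ s ∈ steps, s.1.1 < 31671) ∨ ∀ k < 5, ∀ z, Q z → Q (rep (hw k) z)) →
      ∀ known, clo steps known = true → (∀ w ∈ known, Known Q w) → ∀ g ∈ genPts, Known Q g := by
  intro steps
  induction steps with
  | nil =>
    intro _ known h hk g hg
    exact hk g (of_decide_eq_true (List.all_eq_true.1 h g hg))
  | cons s steps ih =>
    intro hops known h hk
    change (stepOK known s && force (stepPt s) fun w => clo steps (w :: known)) = true at h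
    rw [force_eq, Bool.and_eq_true] at h
    obtain ⟨hok, hrest⟩ := h
    refine ih (hops.imp_left fun h s' hs' => h s' (List.mem_cons_of_mem _ hs')) _ hrest fun w hw' => ?_
    rcases List.mem_cons.1 hw' with rfl | hw'
    · simp only [stepOK, Bool.and_eq_true, decide_eq_true_eq] at hok
      obtain ⟨hz, hok⟩ := hok
      obtain ⟨hzlt, hzQ⟩ := hk _ hz
      by_cases hlt : s.1.1 < 31671
      · simp only [show Nat.blt s.1.1 31671 = true from ble_of hlt, cond_true, Bool.and_eq_true,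
          decide_eq_true_eq] at hok
        obtain ⟨⟨ha, h0⟩, hlet⟩ := hok
        obtain ⟨halt, haQ⟩ := hk _ ha
        have hu : ∀ x ∈ s.1.2, x < 10 := fun x hx => Nat.le_of_ble_eq_true (List.all_eq_true.1 hlet x hx)
        have e : stepPt s = (rep (T ⟨s.1.1, halt⟩) ⟨s.2, hzlt⟩ : ℕ) := by
          rw [stepPt, show Nat.blt s.1.1 31671 = true from ble_of hlt, cond_true,
            eval_T hu (Nat.eq_of_beq_eq_true h0)]
        rw [e]
        exact ⟨(rep (T ⟨s.1.1, halt⟩) ⟨s.2, hzlt⟩).2, hT _ _ haQ hzQ⟩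
      · have hf : Nat.blt s.1.1 31671 = false := Bool.eq_false_iff.2 fun e => hlt (Nat.le_of_ble_eq_true e)
        simp only [hf, cond_false] at hok
        rcases hops with hops | hops
        · exact absurd (hops s List.mem_cons_self) hlt
        have e : stepPt s = (rep (hw (s.1.1 - 31671)) ⟨s.2, hzlt⟩ : ℕ) := by
          rw [stepPt, hf, cond_false, hw, rep_pw (hwd_lt _)]
        rw [e]
        exact ⟨(rep (hw (s.1.1 - 31671)) ⟨s.2, hzlt⟩).2, hops _ (Nat.le_of_ble_eq_true hok) _ hzQ⟩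
    · exact hk w hw'

/-- the point of a generator -/
noncomputable def gpt (x : ℕ) : Pt :=
  if h : genPts.getD x 0 < F23.table.n then ⟨genPts.getD x 0, h⟩ else o

theorem gpt_val : ∀ x < 10, (gpt x : ℕ) = genPts.getD x 0 := by
  intro x hx
  rw [gpt, dif_pos (show genPts.getD x 0 < F23.table.n from
    (by decide +kernel : ∀ x < 10, genPts.getD x 0 < 31671) x hx)]

theorem gen_braid {x y : ℕ} (h : [x, y, x, y, x, y] ∈ F23.rels) :
    (gen x : Fi23) * gen y * gen x = gen y * gen x * gen y :=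
  DoubleCoverUtil.braid_conj (gen_mul_self x) (gen_mul_self y) (by
    have := pres.gen_rel _ h
    simpa [wprod, pow_succ, mul_assoc] using this)

theorem edge_rel : ∀ e ∈ [(1, 0), (1, 2), (2, 3), (3, 4), (3, 8), (4, 5), (5, 6), (6, 7), (8, 9)],
    [(e : ℕ × ℕ).1, e.2, e.1, e.2, e.1, e.2] ∈ F23.rels ∨ [e.2, e.1, e.2, e.1, e.2, e.1] ∈ F23.rels := by
  decide +kernel

theorem T_gen : ∀ x < 10, T (gpt x) = (gen x : Fi23) := by
  have h1 : T (gpt 1) = (gen 1 : Fi23) := by
    have hlt : ∀ x ∈ tw, x < 10 := by decide +kernel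
    rw [T_eq (g := pw tw) (Fin.ext ((rep_pw hlt _).trans (by rw [gpt_val 1 (by norm_num)]; exact gen_pts.2.1.symm))),
      pw, inv_inv, t, W]
    simp [mul_assoc]
  have step : ∀ e ∈ [(1, 0), (1, 2), (2, 3), (3, 4), (3, 8), (4, 5), (5, 6), (6, 7), (8, 9)],
      T (gpt (e : ℕ × ℕ).1) = (gen e.1 : Fi23) → T (gpt e.2) = (gen e.2 : Fi23) := by
    intro e he hT
    obtain ⟨h1, h2⟩ : e.1 < 10 ∧ e.2 < 10 :=
      (by decide : ∀ e ∈ [(1, 0), (1, 2), (2, 3), (3, 4), (3, 8), (4, 5), (5, 6), (6, 7), (8, 9)],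
        (e : ℕ × ℕ).1 < 10 ∧ e.2 < 10) e he
    have hlt : ∀ x ∈ [e.2, e.1], x < 10 := by simp [h1, h2]
    have he' : rep (pw [e.2, e.1]) (gpt e.1) = gpt e.2 := Fin.ext (by
      rw [rep_pw hlt, gpt_val _ h1, gpt_val _ h2]; exact gen_pts.2.2 e he)
    rw [← he', T_rep, hT, show pw [e.2, e.1] = (gen e.1 : Fi23) * gen e.2 by simp [pw, wprod, inv_gen]]
    have hb : (gen e.1 : Fi23) * gen e.2 * gen e.1 = gen e.2 * gen e.1 * gen e.2 := by
      rcases edge_rel e he with h | h
      · exact gen_braid h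
      · exact (gen_braid h).symm
    rw [mul_inv_rev, inv_gen, inv_gen]
    calc (gen e.1 : Fi23) * gen e.2 * gen e.1 * (gen e.2 * gen e.1)
        = gen e.2 * gen e.1 * gen e.2 * (gen e.2 * gen e.1) := by rw [hb]
      _ = gen e.2 * (gen e.1 * (gen e.2 * gen e.2) * gen e.1) := by simp [mul_assoc]
      _ = gen e.2 := by rw [gen_mul_self, mul_one, gen_mul_self, mul_one]
  have h0 := step (1, 0) (by simp) h1
  have h2 := step (1, 2) (by simp) h1
  have h3 := step (2, 3) (by simp) h2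
  have h4 := step (3, 4) (by simp) h3
  have h8 := step (3, 8) (by simp) h3
  have h5 := step (4, 5) (by simp) h4
  have h6 := step (5, 6) (by simp) h5
  have h7 := step (6, 7) (by simp) h6
  have h9 := step (8, 9) (by simp) h8
  intro x hx
  interval_cases x <;> assumption

/-- a property of all generator points, from a closure -/
theorem gen_known (Q : Pt → Prop) (hT : ∀ x z, Q x → Q z → Q (rep (T x) z)) (hF : ∀ a, InF a → Q a)
    {r : ℕ} (hr : r < F23.table.n) (hQr : Q ⟨r, hr⟩) {steps : List ((ℕ × List ℕ) × ℕ)} {start : List ℕ}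
    (hs : startChk r start = true) (hc : clo steps start = true)
    (hops : (∀ s ∈ steps, s.1.1 < 31671) ∨ ∀ k < 5, ∀ z, Q z → Q (rep (hw k) z)) :
    ∀ x < 10, Q (gpt x) := by
  intro x hx
  have hk : ∀ w ∈ start, Known Q w := by
    intro w hw'
    have h := List.all_eq_true.1 hs w hw'
    simp only [Bool.or_eq_true, Bool.and_eq_true] at h
    rcases h with h | ⟨h1, h2⟩
    · obtain rfl := Nat.eq_of_beq_eq_true h
      exact ⟨hr, hQr⟩
    · refine ⟨Nat.le_of_ble_eq_true h1, hF _ fun e => ?_⟩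
      have : Nat.beq (pos w) 0 = true := by
        rw [show pos w = 0 from e]; rfl
      rw [this] at h2
      exact absurd h2 (by decide)
  obtain ⟨h, hQ⟩ := clo_sound Q hT steps hops start hc hk (genPts.getD x 0) (by
    rw [List.getD_eq_getElem _ _ (by rw [gen_pts.1]; exact hx)]; exact List.getElem_mem _)
  rwa [show gpt x = ⟨_, h⟩ from Fin.ext (gpt_val x hx)]

/-- meeting every point of the set -/
def Cov (a : Pt) : Prop := ∀ b, InF b → ∃ c, InF c ∧ Com c a ∧ Com c b

theorem cov_equiv {g : Fi23} (hg : g ∈ St) {a : Pt} : Cov (rep g a) ↔ Cov a := by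
  constructor
  · intro h b hb
    obtain ⟨c, h1, h2, h3⟩ := h (rep g b) ((hg b).2 hb)
    obtain ⟨c, rfl⟩ := (rep g).surjective c
    exact ⟨c, (hg c).1 h1, (com_conj g).1 h2, (com_conj g).1 h3⟩
  · intro h b hb
    obtain ⟨b, rfl⟩ := (rep g).surjective b
    obtain ⟨c, h1, h2, h3⟩ := h b ((hg b).1 hb)
    exact ⟨_, (hg c).2 h1, (com_conj g).2 h2, (com_conj g).2 h3⟩

/-- the first outer root -/
noncomputable def r₁ : Pt := ⟨root 1, root_lt 1⟩

/-- the second outer root -/
noncomputable def r₂ : Pt := ⟨root 2, root_lt 2⟩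

theorem cov_r₁ : Cov r₁ := by
  intro b hb
  obtain ⟨i, hi, rfl⟩ := inF_iff.1 hb
  have h := DoubleCoverUtil.below_get _ cov_chk i hi
  simp only [covChk, force_eq, Bool.and_eq_true] at h
  obtain ⟨hk, hc⟩ := h
  have hk' : field covT 128 20 i < 36 := Nat.le_of_ble_eq_true hk
  let c : Pt := rep (pw (pathN.getD (field covT 128 20 i) [])) o
  have hcv : fol (pathN.getD (field covT 128 20 i) []) 0 = (c : ℕ) := (rep_pw (pN_lt _) o).symm
  refine ⟨c, fun e => paths_ok.2.2.2.2.2.2.2.2.2.2.1 _ hk' (by rw [hcv]; exact e), ?_,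
    (comB_iff (pN_lt _) hcv hi).1 hc⟩
  rw [com_iff]
  exact Fin.ext ((eval_T (pN_lt _) hcv r₁).trans (nbr_chk _ hk'))

theorem not_cov_r₂ : ¬ Cov r₂ := by
  intro hcov
  let f : Pt := rep (pw pathFar) o
  have hpf : ∀ x ∈ pathFar, x < 10 := fun x hx => words_lt.2.1 _ (by simp) x hx
  have hfv : fol pathFar 0 = (f : ℕ) := (rep_pw hpf o).symm
  obtain ⟨c, h1, h2, h3⟩ := hcov f (fun e => paths_ok.2.2.2.2.2.2.2.2.2.1 (by rw [hfv]; exact e))
  obtain ⟨i, hi, rfl⟩ := inF_iff.1 h1
  have h := DoubleCoverUtil.below_get _ far_chk i hi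
  rw [farChk, (comB_iff (pR_lt 1) (a := r₂) paths_ok.2.2.2.1 hi).2 (com_symm.1 h2),
    (comB_iff hpf hfv hi).2 (com_symm.1 h3)] at h
  exact absurd h (by decide)

theorem tag_one_iff {a : Pt} : tag a = 1 ↔ ¬ InF a ∧ Cov a := by
  obtain ⟨h3, h0⟩ := tag_facts a
  obtain ⟨g, hg, e⟩ := exists_good a
  constructor
  · intro h1
    refine ⟨fun h => by have := h0.2 h; omega, ?_⟩
    simp only [h1] at e
    rw [← e]
    exact (cov_equiv hg.mem).2 cov_r₁
  · rintro ⟨h, hc⟩
    by_contra hne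
    have h2 : tag a = 2 := by
      have : tag a ≠ 0 := fun e' => h (h0.1 e')
      omega
    simp only [h2] at e
    rw [← e] at hc
    exact not_cov_r₂ ((cov_equiv hg.mem).1 hc)

theorem cnt_eq (f : ℕ → Bool) : ∀ n, cnt f n = ((Finset.range n).filter fun i => f i = true).card := by
  intro n
  induction n with
  | zero => rfl
  | succ n ih =>
    show (bif f n then cnt f n + 1 else cnt f n) = _
    rw [Finset.range_add_one, Finset.filter_insert, ih]
    cases h : f n with
    | false => simp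
    | true => simp [Finset.card_insert_of_notMem]

theorem cnt_add (f : ℕ → Bool) (a : ℕ) : ∀ b, cnt f (a + b) = cnt f a + cnt (fun i => f (a + i)) b := by
  intro b
  induction b with
  | zero => rfl
  | succ b ih =>
    show (bif f (a + b) then cnt f (a + b) + 1 else cnt f (a + b)) =
      cnt f a + (bif f (a + b) then cnt (fun i => f (a + i)) b + 1 else cnt (fun i => f (a + i)) b)
    rw [ih]
    cases f (a + b) <;> simp [Nat.add_assoc]

theorem cnt_orbit : cnt (fun i => Nat.beq (tag i) 1) 31671 = 19683 := by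
  have e : ∀ o n, cnt (fun i => Nat.beq (tag i) 1) (o + n) = cnt (fun i => Nat.beq (tag i) 1) o + tagCnt o n :=
    fun o n => cnt_add _ o n
  have h0 := e 0 4000
  have h1 := e 4000 4000
  have h2 := e 8000 4000
  have h3 := e 12000 4000
  have h4 := e 16000 4000
  have h5 := e 20000 4000
  have h6 := e 24000 4000
  have h7 := e 28000 3671
  have hz : cnt (fun i => Nat.beq (tag i) 1) 0 = 0 := rfl
  simp only [count0, count1, count2, count3, count4, count5, count6, count7] at h0 h1 h2 h3 h4 h5 h6 h7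
  norm_num only at h0 h1 h2 h3 h4 h5 h6 h7
  omega

theorem no_large_prime {p : ℕ} (hp : p.Prime) (h5 : 5 ≤ p) {g : Fi23} (hg : g ∈ St) (hgp : g ^ p = 1) :
    g = 1 := by
  classical
  have hF := fixed_all hp h5 hg hgp
  let A : Finset Pt := Finset.univ.filter fun a => tag (a : ℕ) = 1
  have hcard : A.card = 19683 := by
    rw [← cnt_orbit, cnt_eq, ← Finset.card_map (Fin.valEmbedding) (s := A)]
    refine congrArg Finset.card ?_
    ext i
    simp only [A, Finset.mem_map, Finset.mem_filter, Finset.mem_univ, true_and, Finset.mem_range,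
      Fin.valEmbedding_apply]
    exact ⟨fun ⟨a, ha, e⟩ => ⟨e ▸ a.2, by rw [← e, ha]; rfl⟩,
      fun ⟨h, h'⟩ => ⟨⟨i, h⟩, Nat.eq_of_beq_eq_true h', rfl⟩⟩
  have hm := mod_fix hp hgp A (fun a ha => by
    simp only [A, Finset.mem_filter, Finset.mem_univ, true_and, tag_one_iff] at ha ⊢
    exact ⟨fun h => ha.1 ((hg a).1 h), (cov_equiv hg).2 ha.2⟩)
  rw [hcard] at hm
  obtain ⟨r, hr⟩ : (A.filter fun a => rep g a = a).Nonempty := by
    rw [← Finset.card_pos]
    by_contra hz
    rw [Nat.eq_zero_of_not_pos hz] at hm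
    have hd : p ∣ 3 ^ 9 := by
      rw [show (3 : ℕ) ^ 9 = 19683 by norm_num]
      exact Nat.modEq_zero_iff_dvd.1 hm.symm
    have := Nat.le_of_dvd (by norm_num) (hp.dvd_of_dvd_pow hd)
    omega
  simp only [A, Finset.mem_filter, Finset.mem_univ, true_and] at hr
  obtain ⟨hr1, hrfix⟩ := hr
  obtain ⟨s, hs, e⟩ := exists_good r
  simp only [hr1] at e
  obtain ⟨h1, h2, h3⟩ := conj_data hg hs.mem hgp
  set g' := s⁻¹ * g * s with hg'
  have hQr : rep g' r₁ = r₁ := (h3 _).2 (by rw [show r₁ = ⟨root 1, root_lt 1⟩ from rfl, e, hrfix])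
  have hQF : ∀ a, InF a → rep g' a = a := fun a ha => by
    refine (h3 a).2 ?_
    obtain ⟨i, hi, e'⟩ := inF_iff.1 ((hs.mem a).2 ha)
    rw [← e', hF i hi]
  have hgen := gen_known (fun a => rep g' a = a) (fun x z hx hz => fix_op hx hz) hQF (r := 2)
    (root_lt 1) hQr start0_chk clo0 (Or.inl steps0_pure)
  have hcomm : ∀ h : Fi23, g' * h = h * g' := by
    intro h
    have hle : (⊤ : Subgroup Fi23) ≤ Subgroup.centralizer {g'} := by
      rw [← closure_gen, Subgroup.closure_le]
      rintro _ ⟨x, hx, rfl⟩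
      rw [SetLike.mem_coe, Subgroup.mem_centralizer_singleton_iff, ← T_gen x hx]
      have hfix := T_rep g' (gpt x)
      rw [hgen x hx] at hfix
      conv_lhs => rw [hfix]
      rw [inv_mul_cancel_right]
    exact (Subgroup.mem_centralizer_singleton_iff.1 (hle (Subgroup.mem_top h))).symm
  have hone : g' = 1 := eq_one_of_commute hcomm hQr
  calc g = s * g' * s⁻¹ := by rw [hg']; simp [mul_assoc]
    _ = 1 := by rw [hone, mul_one, mul_inv_cancel]

theorem St_ne_top : St ≠ ⊤ := by
  intro h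
  have h6 := (h ▸ Subgroup.mem_top _ : pw [6] ∈ St) (P 36)
  have hv : (rep (pw [6]) (P 36) : ℕ) = fol [6] (pt 36) := by
    rw [rep_pw (by decide), P_val (by norm_num)]
  have : InF (rep (pw [6]) (P 36)) := h6.2 (inF_P (by norm_num))
  apply this
  rw [hv]
  decide +kernel

theorem St_coatom : IsCoatom St := by
  refine ⟨St_ne_top, fun K hK => ?_⟩
  obtain ⟨g, hgK, hgS⟩ := SetLike.exists_of_lt hK
  have hle : St ≤ K := hK.le
  have hTF : ∀ a, InF a → T a ∈ K := by
    intro a ha
    obtain ⟨i, hi, rfl⟩ := inF_iff.1 ha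
    obtain ⟨s, hs, e⟩ := good_to hi
    have h0 : T (P 0) = hw 0 := by
      rw [hw, words_lt.2.2.2, P_zero]
      exact T_path (u := []) (by simp) rfl
    rw [← e, T_rep, h0]
    exact hle (mul_mem (mul_mem hs.mem (act_hw (by norm_num)).mem) (inv_mem hs.mem))
  obtain ⟨r, hr, hTr⟩ : ∃ r, ¬ InF r ∧ T r ∈ K := by
    rw [mem_St, not_forall] at hgS
    obtain ⟨a, ha⟩ := hgS
    by_cases hFa : InF a
    · refine ⟨rep g a, fun h => ha ⟨fun _ => hFa, fun _ => h⟩, ?_⟩
      rw [T_rep]
      exact mul_mem (mul_mem hgK (hTF a hFa)) (inv_mem hgK)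
    · have hga : InF (rep g a) := by
        by_contra h
        exact ha (iff_of_false h hFa)
      refine ⟨a, hFa, ?_⟩
      have := T_rep g⁻¹ (rep g a)
      rw [rep_inv_apply, inv_inv] at this
      rw [this]
      exact mul_mem (mul_mem (inv_mem hgK) (hTF _ hga)) hgK
  obtain ⟨s, hs, e⟩ := exists_good r
  have hTroot : T ⟨root (tag r), root_lt _⟩ ∈ K := by
    have := T_rep s⁻¹ r
    rw [← e, rep_inv_apply, e, inv_inv] at this
    rw [this]
    exact mul_mem (mul_mem (inv_mem (hle hs.mem)) hTr) (hle hs.mem)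
  have hQT : ∀ x z, T x ∈ K → T z ∈ K → T (rep (T x) z) ∈ K := fun x z hx hz => by
    rw [T_rep]; exact mul_mem (mul_mem hx hz) (inv_mem hx)
  have hops : ∀ k < 5, ∀ z, T z ∈ K → T (rep (hw k) z) ∈ K := fun k hk z hz => by
    rw [T_rep]; exact mul_mem (mul_mem (hle (act_hw hk).mem) hz) (inv_mem (hle (act_hw hk).mem))
  have hgen : ∀ x < 10, T (gpt x) ∈ K := by
    obtain ⟨h3, h0⟩ := tag_facts r
    have : tag r ≠ 0 := fun e' => hr (h0.1 e')
    rcases (show tag r = 1 ∨ tag r = 2 by omega) with h | h <;> simp only [h] at hTroot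
    · exact gen_known (fun a => T a ∈ K) hQT hTF (r := 2) (root_lt 1) hTroot start0_chk clo0 (Or.inr hops)
    · exact gen_known (fun a => T a ∈ K) hQT hTF (r := 18) (root_lt 2) hTroot start1_chk clo1 (Or.inr hops)
  rw [eq_top_iff, ← closure_gen, Subgroup.closure_le]
  rintro _ ⟨x, hx, rfl⟩
  rw [SetLike.mem_coe, ← T_gen x hx]
  exact hgen x hx

end CfsgLib.KnownA.Fi23Max
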