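import Cfsg.Agent.Lib.KnownA.Fi23Max.Base

/-!
The stabiliser of the set has no element of prime order at least five.
-/

set_option autoImplicit false
set_option maxRecDepth 100000

namespace CfsgLib.KnownA.Fi23Max

open CfsgLib.InvChar CfsgLib.InvChar.Coset Cfsg.Spor CfsgLib.InvChar.SporFi23

theorem comB_iff {u : List ℕ} (hu : ∀ x ∈ u, x < 10) {a : Pt} (ha : fol u 0 = (a : ℕ)) {j : ℕ}
    (hj : j < 324) : comB u j = true ↔ Com a (P j) := by
  rw [com_iff, Fin.ext_iff, eval_T hu ha, P_val hj, comB, force_eq]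
  exact ⟨Nat.eq_of_beq_eq_true, fun h => by rw [h]; exact Nat.beq_refl _⟩

theorem pA_lt (i : ℕ) : ∀ x ∈ pA i, x < 10 := by
  intro x hx
  rw [pA] at hx
  by_cases h : i < pathA.length
  · rw [List.getD_eq_getElem _ _ h] at hx
    exact words_lt.2.1 _ (by simp [List.getElem_mem h]) x hx
  · rw [List.getD_eq_default _ _ (Nat.le_of_not_lt h)] at hx
    exact absurd hx (by simp)

theorem getD_lt {L : List (List ℕ)} (hL : ∀ l ∈ L, l ∈ pathA ++ pathB ++ pathR ++ pathU ++ pathX ++ pathN ++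
    [pathFar]) (i : ℕ) : ∀ x ∈ L.getD i [], x < 10 := by
  intro x hx
  by_cases h : i < L.length
  · rw [List.getD_eq_getElem _ _ h] at hx
    exact words_lt.2.1 _ (hL _ (List.getElem_mem h)) x hx
  · rw [List.getD_eq_default _ _ (Nat.le_of_not_lt h)] at hx
    exact absurd hx (by simp)

theorem pB_lt (i : ℕ) : ∀ x ∈ pathB.getD i [], x < 10 := getD_lt (fun l h => by simp [h]) i
theorem pR_lt (i : ℕ) : ∀ x ∈ pathR.getD i [], x < 10 := getD_lt (fun l h => by simp [h]) i
theorem pU_lt (i : ℕ) : ∀ x ∈ pathU.getD i [], x < 10 := getD_lt (fun l h => by simp [h]) i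
theorem pX_lt (i : ℕ) : ∀ x ∈ pathX.getD i [], x < 10 := getD_lt (fun l h => by simp [h]) i
theorem pN_lt (i : ℕ) : ∀ x ∈ pathN.getD i [], x < 10 := getD_lt (fun l h => by simp [h]) i

theorem pA_end {i : ℕ} (hi : i < 36) : fol (pA i) 0 = (P i : ℕ) := by
  rw [P_val (by omega)]; exact paths_ok.1 i hi

/-- neighbours in the set -/
def Nb (a b : Pt) : Prop := InF b ∧ b ≠ a ∧ Com a b

/-- the part of a point -/
def SameP (a b : Pt) : Prop := InF b ∧ ∀ c, Nb a c → Com c b

theorem nb_equiv {g : Fi23} (hg : g ∈ St) {a b : Pt} : Nb (rep g a) (rep g b) ↔ Nb a b := by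
  rw [Nb, Nb, hg b, com_conj, (rep g).injective.ne_iff]

theorem sameP_equiv {g : Fi23} (hg : g ∈ St) {a b : Pt} :
    SameP (rep g a) (rep g b) ↔ SameP a b := by
  rw [SameP, SameP, hg b]
  refine and_congr_right fun _ => ⟨fun h c hc => (com_conj g).1 (h _ ((nb_equiv hg).2 hc)), fun h c hc => ?_⟩
  obtain ⟨c, rfl⟩ := (rep g).surjective c
  exact (com_conj g).2 (h c ((nb_equiv hg).1 hc))

theorem nb_base {c : ℕ} (hc : c < 324) : Nb (P 0) (P c) ↔ 9 ≤ c ∧ c < 36 := by
  rcases Nat.eq_zero_or_pos c with rfl | hpos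
  · simp [Nb]
  have h := DoubleCoverUtil.below_get _ nb_chk c hc
  simp only [nbChk, Bool.or_eq_true] at h
  rcases h with h | h
  · exact absurd (Nat.eq_of_beq_eq_true h) (by omega)
  rw [beq_iff_eq] at h
  have hcom : Com (P 0) (P c) ↔ comB [] c = true :=
    (comB_iff (u := []) (by simp) (a := P 0) (by rw [P_zero]; rfl) hc).symm
  constructor
  · rintro ⟨-, -, h2⟩
    rw [hcom.1 h2] at h
    have := h.symm
    simp only [Bool.and_eq_true] at this
    exact ⟨Nat.le_of_ble_eq_true this.1, Nat.le_of_ble_eq_true this.2⟩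
  · rintro ⟨h1, h2⟩
    refine ⟨inF_P hc, fun e => by have := P_inj hc (by norm_num) e; omega, hcom.2 ?_⟩
    rw [h, Bool.and_eq_true]
    exact ⟨ble_of h1, ble_of h2⟩

theorem part_base {b : ℕ} (hb : b < 324) : SameP (P 0) (P b) ↔ b < 9 := by
  have h := DoubleCoverUtil.below_get _ part_chk b hb
  constructor
  · rintro ⟨-, h2⟩
    by_contra hne
    rw [partChk, show Nat.blt b 9 = false from Bool.eq_false_iff.2 fun e => hne (Nat.le_of_ble_eq_true e),
      cond_false, Bool.not_eq_true'] at h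
    have : DoubleCoverUtil.below (fun c => comB (pA (9 + c)) b) 27 = true := by
      have key : ∀ n ≤ 27, DoubleCoverUtil.below (fun c => comB (pA (9 + c)) b) n = true := by
        intro n
        induction n with
        | zero => intro _; rfl
        | succ n ih =>
          intro hn
          show (comB (pA (9 + n)) b && DoubleCoverUtil.below (fun c => comB (pA (9 + c)) b) n) = true
          rw [Bool.and_eq_true]
          refine ⟨(comB_iff (pA_lt _) (pA_end (by omega)) hb).2 ?_, ih (by omega)⟩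
          exact h2 _ ((nb_base (by omega)).2 ⟨by omega, by omega⟩)
      exact key 27 le_rfl
    rw [this] at h
    exact absurd h (by simp)
  · intro hb9
    rw [partChk, show Nat.blt b 9 = true from ble_of hb9, cond_true] at h
    refine ⟨inF_P hb, fun c hc => ?_⟩
    obtain ⟨i, hi, rfl⟩ := inF_iff.1 hc.1
    obtain ⟨h1, h2⟩ := (nb_base hi).1 hc
    have := DoubleCoverUtil.below_get _ h (i - 9) (by omega)
    rw [show 9 + (i - 9) = i by omega] at this
    exact (comB_iff (pA_lt _) (pA_end h2) hb).1 this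

variable {p : ℕ}

theorem mod_fix (hp : p.Prime) {g : Fi23} (hgp : g ^ p = 1) (A : Finset Pt)
    (hA : ∀ a ∈ A, rep g a ∈ A) : (A.filter fun a => rep g a = a).card ≡ A.card [MOD p] := by
  classical
  haveI : Fact p.Prime := ⟨hp⟩
  have him : A.image (rep g) = A := Finset.eq_of_subset_of_card_le (fun x hx => by
    obtain ⟨a, ha, rfl⟩ := Finset.mem_image.1 hx
    exact hA a ha) (by rw [Finset.card_image_of_injective _ (rep g).injective])
  have hiff : ∀ x, rep g x ∈ A ↔ x ∈ A := fun x => ⟨fun h => by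
    rw [← him] at h
    obtain ⟨a, ha, e⟩ := Finset.mem_image.1 h
    exact (rep g).injective e ▸ ha, hA x⟩
  set τ := (rep g).subtypePerm hiff
  have hτ : τ ^ p ^ 1 = 1 := by
    ext x
    simp only [pow_one, τ, Equiv.Perm.subtypePerm_pow, ← map_pow, hgp, map_one]
    rfl
  have h := Equiv.Perm.card_compl_support_modEq hτ
  rw [Fintype.card_coe] at h
  have e : τ.supportᶜ.map (Function.Embedding.subtype _) = A.filter fun a => rep g a = a := by
    ext a
    simp [τ, and_comm]
  rw [← e, Finset.card_map]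
  exact h

theorem mod_fix_idx (hp : p.Prime) {g : Fi23} (hgp : g ^ p = 1) (J : Finset ℕ) (hJ : ∀ j ∈ J, j < 324)
    (hinv : ∀ j ∈ J, ∃ j' ∈ J, rep g (P j) = P j') :
    (J.filter fun j => rep g (P j) = P j).card ≡ J.card [MOD p] := by
  classical
  have hinj : Set.InjOn P (J : Set ℕ) := fun a ha b hb e => P_inj (hJ a ha) (hJ b hb) e
  have h := mod_fix hp hgp (J.image P) (fun a ha => by
    obtain ⟨j, hj, rfl⟩ := Finset.mem_image.1 ha
    obtain ⟨j', hj', e⟩ := hinv j hj
    exact e ▸ Finset.mem_image_of_mem P hj')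
  rwa [Finset.filter_image, Finset.card_image_of_injOn (hinj.mono (Finset.coe_subset.2 (Finset.filter_subset _ _))),
    Finset.card_image_of_injOn hinj] at h

theorem arith9 (hp : p.Prime) (h5 : 5 ≤ p) {c : ℕ} (h : c ≡ 9 [MOD p]) (hc : c ≤ 9) (h2 : c ≠ 2)
    (h4 : c ≠ 4) : c = 9 := by
  have hd : p ∣ 9 - c := (Nat.modEq_iff_dvd' hc).1 h
  by_contra hne
  have hle := Nat.le_of_dvd (by omega) hd
  interval_cases c <;> interval_cases p <;> first | omega | norm_num at *

theorem fix_op {g : Fi23} {a b : Pt} (ha : rep g a = a) (hb : rep g b = b) :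
    rep g (rep (T a) b) = rep (T a) b := by
  have hc : g * T a = T a * g := by
    have := T_rep g a
    rw [ha] at this
    conv_rhs => rw [this]
    rw [inv_mul_cancel_right]
  rw [← Equiv.Perm.mul_apply, ← map_mul, hc, map_mul, Equiv.Perm.mul_apply, hb]

theorem conj_data {g s : Fi23} (hg : g ∈ St) (hs : s ∈ St) (hgp : g ^ p = 1) :
    s⁻¹ * g * s ∈ St ∧ (s⁻¹ * g * s) ^ p = 1 ∧
      ∀ a, rep (s⁻¹ * g * s) a = a ↔ rep g (rep s a) = rep s a := by
  refine ⟨mul_mem (mul_mem (inv_mem hs) hg) hs, ?_, fun a => ?_⟩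
  · have h := conj_pow (a := s⁻¹) (b := g) (i := p)
    rw [inv_inv] at h
    rw [h, hgp, mul_one, inv_mul_cancel]
  · rw [map_mul, map_mul, Equiv.Perm.mul_apply, Equiv.Perm.mul_apply, map_inv, Equiv.Perm.inv_eq_iff_eq]

theorem fixed_part_base (hp : p.Prime) (h5 : 5 ≤ p) {g : Fi23} (hg : g ∈ St) (hgp : g ^ p = 1)
    (h0 : rep g (P 0) = P 0) : ∀ j < 9, rep g (P j) = P j := by
  classical
  have hinv : ∀ j ∈ Finset.range 9, ∃ j' ∈ Finset.range 9, rep g (P j) = P j' := fun j hj => by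
    rw [Finset.mem_range] at hj
    have h := (sameP_equiv hg).2 ((part_base (b := j) (by omega)).2 hj)
    rw [h0] at h
    obtain ⟨i, hi, e⟩ := inF_iff.1 h.1
    rw [← e] at h
    exact ⟨i, Finset.mem_range.2 ((part_base hi).1 h), e.symm⟩
  have hm := mod_fix_idx hp hgp (Finset.range 9) (fun j hj => by rw [Finset.mem_range] at hj; omega) hinv
  let A : Finset (Fin 9) := Finset.univ.filter fun i => rep g (P i) = P i
  have hA : ∀ i ∈ A, ∀ j ∈ A, Fin.ofNat 9 (pop i j) ∈ A := fun i hi j hj => by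
    simp only [A, Finset.mem_filter, Finset.mem_univ, true_and] at hi hj ⊢
    have h := pop_chk i i.2 j j.2
    simp only [popChk, Bool.and_eq_true] at h
    have h9 : pop i j < 9 := Nat.le_of_ble_eq_true h.1
    have e : rep (T (P i)) (P j) = P (pop i j) := Fin.ext (by
      rw [eval_T (pA_lt _) (pA_end (by omega)), P_val (by omega), P_val (by omega)]
      exact Nat.eq_of_beq_eq_true h.2)
    rw [show ((Fin.ofNat 9 (pop i j) : Fin 9) : ℕ) = pop i j from Nat.mod_eq_of_lt h9, ← e]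
    exact fix_op hi hj
  have hcard : ((Finset.range 9).filter fun j => rep g (P j) = P j).card = A.card := by
    rw [← Finset.card_map (Fin.valEmbedding) (s := A)]
    refine congrArg Finset.card ?_
    ext j
    simp only [A, Finset.mem_filter, Finset.mem_range, Finset.mem_map, Finset.mem_univ, true_and,
      Fin.valEmbedding_apply]
    exact ⟨fun h => ⟨⟨j, h.1⟩, h.2, rfl⟩, fun ⟨i, hi, e⟩ => e ▸ ⟨i.2, hi⟩⟩
  rw [hcard, Finset.card_range] at hm
  obtain ⟨n2, n4⟩ := pop_closed A hA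
  have h9 := arith9 hp h5 hm ((Finset.card_le_univ A).trans (by simp)) n2 n4
  have hAu : A = Finset.univ := Finset.eq_univ_of_card _ (by simpa using h9)
  intro j hj
  have : (⟨j, hj⟩ : Fin 9) ∈ A := hAu ▸ Finset.mem_univ _
  simp only [A, Finset.mem_filter] at this
  exact this.2

/-- a good element from the base point to an index -/
theorem good_to {i : ℕ} (hi : i < 324) : ∃ s, Good s ∧ rep s (P 0) = P i := by
  obtain ⟨s, hs, e⟩ := exists_good (P i)
  refine ⟨s, hs, ?_⟩
  have : tag (P i : ℕ) = 0 := (tag_facts _).2.2 (inF_P hi)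
  simp only [this] at e
  rw [P_zero]
  exact e

theorem fixed_part (hp : p.Prime) (h5 : 5 ≤ p) {g : Fi23} (hg : g ∈ St) (hgp : g ^ p = 1) {i : ℕ}
    (hi : i < 324) (hfix : rep g (P i) = P i) : ∀ j < 324, j / 9 = i / 9 → rep g (P j) = P j := by
  intro j hj hji
  obtain ⟨s, hs, e⟩ := good_to hi
  obtain ⟨h1, h2, h3⟩ := conj_data hg hs.mem hgp
  have hb := fixed_part_base hp h5 h1 h2 ((h3 _).2 (by rw [e, hfix]))
  obtain ⟨π, hπ1, hπ2, hπ3⟩ := hs
  obtain ⟨i', hi', e1, e2⟩ := hπ3 0 (by norm_num)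
  obtain rfl : i' = i := P_inj hi' hi (e1.symm.trans e)
  have hs' : s ∈ St := Good.mem ⟨π, hπ1, hπ2, hπ3⟩
  obtain ⟨f, hf⟩ := exists_act hs'
  obtain ⟨j1, hj1, ef⟩ := hf.surj hj
  obtain ⟨a, ha, ea, ea9⟩ := hπ3 j1 hj1
  obtain rfl : j = a := P_inj hj ha (by rw [← ef, ← (hf j1 hj1).2, ea])
  have : j1 / 9 = 0 := (hπ2 _ (by omega) 0 (by norm_num)).1 (by rw [← ea9, hji, e2])
  have := (h3 _).1 (hb j1 (by omega))
  rwa [ea] at this

theorem filter_blocks : ∀ b₀ b₁ b₂ : Bool,
    ((Finset.Ico 9 36).filter fun j => [b₀, b₁, b₂].getD ((j - 9) / 9) false = true).card ∈ [0, 9, 18, 27] ∧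
    (((Finset.Ico 9 36).filter fun j => [b₀, b₁, b₂].getD ((j - 9) / 9) false = true).card = 27 →
      b₀ = true ∧ b₁ = true ∧ b₂ = true) := by decide +kernel

theorem fixed_block_base (hp : p.Prime) (h5 : 5 ≤ p) {g : Fi23} (hg : g ∈ St) (hgp : g ^ p = 1)
    (h0 : rep g (P 0) = P 0) : ∀ j < 36, rep g (P j) = P j := by
  classical
  have hinv : ∀ j ∈ Finset.Ico 9 36, ∃ j' ∈ Finset.Ico 9 36, rep g (P j) = P j' := fun j hj => by
    rw [Finset.mem_Ico] at hj
    have h := (nb_equiv hg).2 ((nb_base (c := j) (by omega)).2 hj)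
    rw [h0] at h
    obtain ⟨i, hi, e⟩ := inF_iff.1 h.1
    rw [← e] at h
    exact ⟨i, Finset.mem_Ico.2 ((nb_base hi).1 h), e.symm⟩
  have hm := mod_fix_idx hp hgp (Finset.Ico 9 36) (fun j hj => by rw [Finset.mem_Ico] at hj; omega) hinv
  let b : ℕ → Bool := fun k => decide (rep g (P (9 + 9 * k)) = P (9 + 9 * k))
  have hpart : ∀ j, 9 ≤ j → j < 36 →
      (rep g (P j) = P j ↔ [b 0, b 1, b 2].getD ((j - 9) / 9) false = true) := by
    intro j h1 h2
    have hk : (j - 9) / 9 < 3 := by omega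
    have e : [b 0, b 1, b 2].getD ((j - 9) / 9) false = b ((j - 9) / 9) := by
      obtain ⟨k, hk'⟩ : ∃ k, k = (j - 9) / 9 := ⟨_, rfl⟩
      rw [← hk'] at hk ⊢
      interval_cases k <;> rfl
    rw [e, decide_eq_true_eq]
    refine ⟨fun h => fixed_part hp h5 hg hgp (by omega) h _ (by omega) (by omega),
      fun h => fixed_part hp h5 hg hgp (by omega) h _ (by omega) (by omega)⟩
  have efil : ((Finset.Ico 9 36).filter fun j => rep g (P j) = P j) =
      (Finset.Ico 9 36).filter fun j => [b 0, b 1, b 2].getD ((j - 9) / 9) false = true :=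
    Finset.filter_congr fun j hj => hpart j (Finset.mem_Ico.1 hj).1 (Finset.mem_Ico.1 hj).2
  rw [efil, Nat.card_Ico] at hm
  obtain ⟨h1, h2⟩ := filter_blocks (b 0) (b 1) (b 2)
  generalize ((Finset.Ico 9 36).filter fun j => [b 0, b 1, b 2].getD ((j - 9) / 9) false = true).card = c at hm h1 h2
  have hc : c = 27 := by
    simp only [List.mem_cons, List.not_mem_nil, or_false] at h1
    by_contra hne
    have hd : p ∣ 27 - c := (Nat.modEq_iff_dvd' (by omega)).1 (by simpa using hm)
    have h54 : p ∣ 2 * 3 ^ 3 := by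
      refine hd.trans ?_
      rcases h1 with rfl | rfl | rfl | rfl <;> first | exact absurd rfl hne | norm_num
    rcases hp.dvd_mul.1 h54 with h | h
    · have := Nat.le_of_dvd (by norm_num) h; omega
    · have := Nat.le_of_dvd (by norm_num) (hp.dvd_of_dvd_pow h); omega
  obtain ⟨t0, t1, t2⟩ := h2 hc
  intro j hj
  rcases Nat.lt_or_ge j 9 with h | h
  · exact fixed_part_base hp h5 hg hgp h0 j h
  · refine (hpart j h hj).2 ?_
    rw [t0, t1, t2]
    have : (j - 9) / 9 < 3 := by omega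
    generalize (j - 9) / 9 = k at this ⊢
    interval_cases k <;> rfl

theorem fixed_block (hp : p.Prime) (h5 : 5 ≤ p) {g : Fi23} (hg : g ∈ St) (hgp : g ^ p = 1) {i : ℕ}
    (hi : i < 324) (hfix : rep g (P i) = P i) : ∀ j < 324, j / 36 = i / 36 → rep g (P j) = P j := by
  intro j hj hji
  obtain ⟨s, hs, e⟩ := good_to hi
  obtain ⟨h1, h2, h3⟩ := conj_data hg hs.mem hgp
  have hb := fixed_block_base hp h5 h1 h2 ((h3 _).2 (by rw [e, hfix]))
  obtain ⟨π, hπ1, hπ2, hπ3⟩ := hs
  obtain ⟨i', hi', e1, e2⟩ := hπ3 0 (by norm_num)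
  obtain rfl : i' = i := P_inj hi' hi (e1.symm.trans e)
  obtain ⟨f, hf⟩ := exists_act (Good.mem ⟨π, hπ1, hπ2, hπ3⟩)
  obtain ⟨j1, hj1, ef⟩ := hf.surj hj
  obtain ⟨a, ha, ea, ea9⟩ := hπ3 j1 hj1
  obtain rfl : j = a := P_inj hj ha (by rw [← ef, ← (hf j1 hj1).2, ea])
  have : j1 / 9 / 4 = 0 / 9 / 4 := (hπ2 _ (by omega) _ (by norm_num)).2.1 (by rw [← ea9, ← e2]; omega)
  have := (h3 _).1 (hb j1 (by omega))
  rwa [ea] at this

theorem fixed_all (hp : p.Prime) (h5 : 5 ≤ p) {g : Fi23} (hg : g ∈ St) (hgp : g ^ p = 1) :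
    ∀ j < 324, rep g (P j) = P j := by
  classical
  obtain ⟨f, hf⟩ := exists_act hg
  have hm := mod_fix_idx hp hgp (Finset.range 324) (fun j hj => Finset.mem_range.1 hj) (fun j hj =>
    ⟨f j, Finset.mem_range.2 (hf j (Finset.mem_range.1 hj)).1, (hf j (Finset.mem_range.1 hj)).2⟩)
  let A : Finset (Fin 9) := Finset.univ.filter fun a => rep g (P (36 * a)) = P (36 * a)
  have hA : ∀ a ∈ A, ∀ b ∈ A, Fin.ofNat 9 (bop a b) ∈ A := fun a ha b hb => by
    simp only [A, Finset.mem_filter, Finset.mem_univ, true_and] at ha hb ⊢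
    have h := bop_chk a a.2 b b.2
    simp only [bopChk, force_eq, Bool.and_eq_true] at h
    set w := rep (T (P (36 * a))) (P (36 * b)) with hw'
    have hwv : fol (tW (pathB.getD a [])) (pt (36 * b)) = (w : ℕ) := by
      rw [hw', eval_T (pB_lt _) (by rw [P_val (by omega)]; exact paths_ok.2.1 a a.2), P_val (by omega)]
    rw [hwv] at h
    have hne : pos w ≠ 0 := fun e => by rw [e] at h; exact absurd h.1 (by decide)
    obtain ⟨i, hi, e⟩ := inF_iff.1 (show InF w from hne)
    have hpi : pos (w : ℕ) = i + 1 := by rw [← e, P_val hi, (pt_ok hi).2]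
    have hblk : i / 36 = bop a b := by
      have := Nat.eq_of_beq_eq_true h.2
      rwa [hpi, Nat.add_sub_cancel] at this
    have hfw : rep g (P i) = P i := by rw [e, hw']; exact fix_op ha hb
    rw [show ((Fin.ofNat 9 (bop a b) : Fin 9) : ℕ) = bop a b from Nat.mod_eq_of_lt (by omega)]
    exact fixed_block hp h5 hg hgp hi hfw _ (by omega) (by omega)
  have hset : ((Finset.range 324).filter fun j => rep g (P j) = P j) =
      (A ×ˢ Finset.range 36).image fun x => 36 * (x.1 : ℕ) + x.2 := by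
    ext j
    simp only [A, Finset.mem_filter, Finset.mem_range, Finset.mem_image, Finset.mem_product, Finset.mem_univ,
      true_and, Prod.exists]
    constructor
    · rintro ⟨hj, hfix⟩
      exact ⟨⟨j / 36, by omega⟩, j % 36,
        ⟨fixed_block hp h5 hg hgp hj hfix _ (by show 36 * (j / 36) < 324; omega)
          (by show 36 * (j / 36) / 36 = j / 36; omega), Nat.mod_lt _ (by norm_num)⟩, Nat.div_add_mod j 36⟩
    · rintro ⟨a, r, ⟨ha, hr⟩, rfl⟩
      have := a.2
      exact ⟨by omega, fixed_block hp h5 hg hgp (by omega) ha _ (by omega) (by omega)⟩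
  rw [hset, Finset.card_image_of_injOn (fun x hx y hy e => by
    simp only [Finset.mem_coe, Finset.mem_product, Finset.mem_range] at hx hy
    have := x.1.2; have := y.1.2
    exact Prod.ext (Fin.ext (by omega)) (by omega)), Finset.card_product, Finset.card_range,
    Finset.card_range] at hm
  have hle : A.card ≤ 9 := (Finset.card_le_univ A).trans (by simp)
  have hm9 : A.card ≡ 9 [MOD p] := by
    refine (Nat.modEq_iff_dvd' hle).2 ?_
    have hd := (Nat.modEq_iff_dvd' (show A.card * 36 ≤ 324 by omega)).1 hm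
    rw [show 324 - A.card * 36 = 36 * (9 - A.card) by omega] at hd
    refine (hp.dvd_mul.1 hd).resolve_left fun h36 => ?_
    rw [show 36 = 2 ^ 2 * 3 ^ 2 by norm_num] at h36
    rcases hp.dvd_mul.1 h36 with h | h <;>
      have := Nat.le_of_dvd (by norm_num) (hp.dvd_of_dvd_pow h) <;> omega
  obtain ⟨n2, n4⟩ := bop_closed A hA
  have hAu : A = Finset.univ := Finset.eq_univ_of_card _ (by simpa using arith9 hp h5 hm9 hle n2 n4)
  intro j hj
  have : (⟨j / 36, by omega⟩ : Fin 9) ∈ A := hAu ▸ Finset.mem_univ _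
  simp only [A, Finset.mem_filter] at this
  exact fixed_block hp h5 hg hgp (i := 36 * (j / 36)) (by omega) this.2 j hj (by omega)

end CfsgLib.KnownA.Fi23Max
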